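import Mathlib

/-!
# Near-TI lemmas for the point-line system of a large extraspecial 2-group (helper947)

`Sys b H X D e`: `V` over `F₂` with an alternating nondegenerate form `b`, `H ≤ Sp(V)`, a vector `e`, an
isotropic subspace `D ∋ e`, an elementary abelian subgroup `X ≤ C_H(e)`, normal in `C_H(e)`, with
`[e^⊥, X] ≤ D`, `[D, X] ≤ ⟨e⟩`, inducing all transvections with centre `e` on `D`, and regular on the
cosets of `D` outside `e^⊥` (blueprint `OMEGA-FF2b-helper947.md`, (N1)-(N4)).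

* `exists_add_eq` (N1): `e ∈ [V, f]` for `1 ≠ f ∈ X`;
* `eq_of_not_mem` (N2): `|X ∩ X^h| ≤ 2` if `h e ∉ D`;
* `Pts`, `Pts.mem_D`, `Pts.add` (N3);
* `fix_of_normalize` (N4): an element of `H` normalising `X` fixes `e`;
* `pow_four_of_cent`: an element of `H` centralising `X` has `f ^ 4 = 1`.
-/

set_option autoImplicit false

namespace Cfsg.Agent.Omega.W5.NearTI

variable {V : Type*} [AddCommGroup V] [Module (ZMod 2) V]

structure Sys (b : LinearMap.BilinForm (ZMod 2) V) (H X : Subgroup (V ≃ₗ[ZMod 2] V))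
    (D : Submodule (ZMod 2) V) (e : V) : Prop where
  alt : ∀ v, b v v = 0
  comm : ∀ v w, b v w = b w v
  nondeg : ∀ v, (∀ w, b v w = 0) → v = 0
  inv : ∀ h ∈ H, ∀ v w, b (h v) (h w) = b v w
  X_le : X ≤ H
  ne : e ≠ 0
  mem : e ∈ D
  X_e : ∀ f ∈ X, f e = e
  X_D : ∀ f ∈ X, ∀ d ∈ D, f d = d ∨ f d = d + e
  X_perp : ∀ f ∈ X, ∀ v, b e v = 0 → f v + v ∈ D
  X_sq : ∀ f ∈ X, f * f = 1
  X_comm : ∀ f ∈ X, ∀ g ∈ X, f * g = g * f
  normal : ∀ h ∈ H, h e = e → ∀ f ∈ X, h * f * h⁻¹ ∈ X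
  D_inv : ∀ h ∈ H, h e = e → ∀ d ∈ D, h d ∈ D
  full : ∀ φ : V →ₗ[ZMod 2] ZMod 2, φ e = 0 → ∃ f ∈ X, ∀ d ∈ D, f d = d + φ d • e
  free : ∀ f ∈ X, ∀ v, b e v = 1 → f v + v ∈ D → f = 1
  surj : ∀ v s, b e v = 1 → b e s = 0 → ∃ f ∈ X, f v + v + s ∈ D
  D_iso : ∀ v ∈ D, ∀ w ∈ D, b v w = 0

theorem two (c : ZMod 2) : c = 0 ∨ c = 1 := by revert c; decide

theorem two_ne {c : ZMod 2} (h : c ≠ 0) : c = 1 := by revert c; decide

theorem self (v : V) : v + v = 0 := by
  have h : (2 : ZMod 2) • v = v + v := two_smul _ v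
  rw [← h, show (2 : ZMod 2) = 0 from rfl, zero_smul]

theorem eq_add_iff {u v w : V} : u = v + w ↔ u + v = w := by
  constructor
  · rintro rfl
    rw [add_right_comm, self, zero_add]
  · rintro rfl
    rw [add_left_comm, self, add_zero]

theorem cancel (u v : V) : u + v + v = u := by rw [add_assoc, self, add_zero]

theorem inv_apply (f : V ≃ₗ[ZMod 2] V) (v : V) : f⁻¹ (f v) = v := f.symm_apply_apply v

theorem apply_inv (f : V ≃ₗ[ZMod 2] V) (v : V) : f (f⁻¹ v) = v := f.apply_symm_apply v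

theorem mul_apply (f g : V ≃ₗ[ZMod 2] V) (v : V) : (f * g) v = f (g v) := rfl

/-- a functional separating a nonzero vector -/
theorem exists_functional {e d : V} (h0 : d ≠ 0) (he : d ≠ e) :
    ∃ φ : V →ₗ[ZMod 2] ZMod 2, φ e = 0 ∧ φ d = 1 := by
  have h1 : d ∉ Submodule.span (ZMod 2) {e} := by
    rw [Submodule.mem_span_singleton]
    rintro ⟨c, hc⟩
    rcases two c with rfl | rfl
    · rw [zero_smul] at hc; exact h0 hc.symm
    · rw [one_smul] at hc; exact he hc.symm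
  obtain ⟨f, hf, hf'⟩ := Submodule.exists_le_ker_of_notMem h1
  exact ⟨f, hf' (Submodule.mem_span_singleton_self e), two_ne hf⟩

theorem mem_of_forall [Finite V] {b : LinearMap.BilinForm (ZMod 2) V} (hn : b.Nondegenerate)
    (hr : b.IsRefl) (W : Submodule (ZMod 2) V) {v : V} (h : ∀ w, (∀ x ∈ W, b x w = 0) → b w v = 0) :
    v ∈ W := by
  have : Module.Finite (ZMod 2) V := Module.Finite.of_finite
  rw [← LinearMap.BilinForm.orthogonal_orthogonal hn hr W, LinearMap.BilinForm.mem_orthogonal_iff]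
  intro w hw
  exact h w fun x hx => (LinearMap.BilinForm.mem_orthogonal_iff.1 hw) x hx

variable {b : LinearMap.BilinForm (ZMod 2) V} {H X : Subgroup (V ≃ₗ[ZMod 2] V)}
  {D : Submodule (ZMod 2) V} {e : V}

namespace Sys

theorem nondegenerate (S : Sys b H X D e) : b.Nondegenerate :=
  ⟨fun v hv => S.nondeg v hv, fun v hv => S.nondeg v fun w => by rw [S.comm]; exact hv w⟩

theorem isRefl (S : Sys b H X D e) : b.IsRefl := fun v w hvw => by rw [S.comm]; exact hvw

theorem exists_one (S : Sys b H X D e) : ∃ v, b e v = 1 := by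
  by_contra hcon
  push Not at hcon
  apply S.ne
  apply S.nondeg
  intro w
  rcases two (b e w) with h | h
  · exact h
  · exact absurd h (hcon w)

theorem b_e_X (S : Sys b H X D e) {f : V ≃ₗ[ZMod 2] V} (hf : f ∈ X) (v : V) :
    b e (f v) = b e v := by
  nth_rewrite 1 [← S.X_e f hf]
  exact S.inv f (S.X_le hf) _ _

theorem b_e_delta (S : Sys b H X D e) {f : V ≃ₗ[ZMod 2] V} (hf : f ∈ X) (v : V) :
    b e (f v + v) = 0 := by
  rw [map_add, S.b_e_X hf, ← two_mul, show (2 : ZMod 2) = 0 from rfl, zero_mul]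

theorem b_e_D (S : Sys b H X D e) {d : V} (hd : d ∈ D) : b e d = 0 := S.D_iso e S.mem d hd

theorem X_D_mem (S : Sys b H X D e) {f : V ≃ₗ[ZMod 2] V} (hf : f ∈ X) {d : V} (hd : d ∈ D) :
    f d ∈ D := by
  rcases S.X_D f hf d hd with h | h
  · rw [h]; exact hd
  · rw [h]; exact D.add_mem hd S.mem

/-- (N1) `e ∈ [V, f]` for `1 ≠ f ∈ X` -/
theorem exists_add_eq [Finite V] (S : Sys b H X D e) {f : V ≃ₗ[ZMod 2] V} (hf : f ∈ X)
    (h1 : f ≠ 1) : ∃ u, f u + u = e := by
  let W : Submodule (ZMod 2) V := LinearMap.range ((f : V →ₗ[ZMod 2] V) + LinearMap.id)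
  have hW : ∀ v, f v + v ∈ W := fun v => ⟨v, rfl⟩
  have h2 : e ∈ W := by
    apply mem_of_forall S.nondegenerate S.isRefl W
    intro w hw
    have h3 : f⁻¹ w = w := by
      have h4 : f⁻¹ w + w = 0 := by
        apply S.nondeg
        intro u
        have h5 := hw _ (hW u)
        rw [map_add, LinearMap.add_apply] at h5 ⊢
        rw [← S.inv f (S.X_le hf) (f⁻¹ w) u, apply_inv, S.comm w, S.comm w u]
        exact h5
      calc f⁻¹ w = w + 0 := eq_add_iff.2 h4
        _ = w := add_zero w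
    have h4 : f w = w := by
      nth_rewrite 1 [← h3]; exact apply_inv f w
    rw [S.comm]
    rcases two (b e w) with h5 | h5
    · exact h5
    · exfalso
      apply h1
      apply S.free f hf w h5
      rw [h4, self]
      exact D.zero_mem
  obtain ⟨u, hu⟩ := h2
  exact ⟨u, hu⟩

/-- (N2) near-TI -/
theorem eq_of_not_mem [Finite V] (S : Sys b H X D e) {h f g : V ≃ₗ[ZMod 2] V}
    (hf : f ∈ X) (hg : g ∈ X) (hf1 : f ≠ 1) (hg1 : g ≠ 1)
    (hf' : h⁻¹ * f * h ∈ X) (hg' : h⁻¹ * g * h ∈ X) (hD : h e ∉ D) : f = g := by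
  have key : ∀ f : V ≃ₗ[ZMod 2] V, f ∈ X → f ≠ 1 → h⁻¹ * f * h ∈ X →
      ∃ u, b e u = 1 ∧ f u + u = h e := by
    intro f hf hf1 hf'
    obtain ⟨u, hu⟩ := S.exists_add_eq hf' (by
      intro h1
      apply hf1
      have : f = h * (h⁻¹ * f * h) * h⁻¹ := by group
      rw [this, h1]; group)
    have h2 : f (h u) + h u = h e := by
      rw [← hu, map_add]
      congr 1
      exact (apply_inv h _).symm
    refine ⟨h u, ?_, h2⟩
    rcases two (b e (h u)) with h3 | h3
    · exfalso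
      apply hD
      rw [← h2]
      exact S.X_perp f hf _ h3
    · exact h3
  obtain ⟨u, hu, hu'⟩ := key f hf hf1 hf'
  obtain ⟨w, hw, hw'⟩ := key g hg hg1 hg'
  -- compare `f` and `g` at `u`
  have h1 : g (u + w) + (u + w) ∈ D := S.X_perp g hg _ (by
    rw [map_add, hu, hw]; rfl)
  have h2 : g u + u + h e ∈ D := by
    have : g u + u + h e = g (u + w) + (u + w) := by
      rw [← hw', map_add]; abel
    rw [this]; exact h1
  have h3 : f u + g u ∈ D := by
    have : f u + g u = g u + u + h e := by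
      rw [← hu']
      have : g u + u + (f u + u) = f u + g u + (u + u) := by abel
      rw [this, self, add_zero]
    rw [this]; exact h2
  have h4 : (g⁻¹ * f) u + u ∈ D := by
    have : (g⁻¹ * f) u + u = g⁻¹ (f u + g u) := by
      rw [map_add, inv_apply]; rfl
    rw [this]
    exact S.X_D_mem (X.inv_mem hg) h3
  have h5 := S.free _ (X.mul_mem (X.inv_mem hg) hf) u hu h4
  exact (inv_mul_eq_one.1 h5).symm

end Sys

/-- the points `h e` whose group `X ^ h` contains `B` -/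
def Pts (H X : Subgroup (V ≃ₗ[ZMod 2] V)) (e : V) (B : Set (V ≃ₗ[ZMod 2] V)) : Set V :=
  {v | ∃ h ∈ H, h e = v ∧ ∀ f ∈ B, h⁻¹ * f * h ∈ X}

namespace Sys

/-- (N3) two points of `Pts B` are collinear -/
theorem mem_D_of_pts [Finite V] (S : Sys b H X D e) {B : Set (V ≃ₗ[ZMod 2] V)}
    {f g : V ≃ₗ[ZMod 2] V} (hf : f ∈ B) (hg : g ∈ B) (hf1 : f ≠ 1) (hg1 : g ≠ 1) (hfg : f ≠ g)
    {h k : V ≃ₗ[ZMod 2] V} (hh : ∀ f ∈ B, h⁻¹ * f * h ∈ X)
    (hk : ∀ f ∈ B, k⁻¹ * f * k ∈ X) : h⁻¹ (k e) ∈ D := by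
  by_contra hD
  apply hfg
  have hne : ∀ f : V ≃ₗ[ZMod 2] V, f ≠ 1 → h⁻¹ * f * h ≠ 1 := by
    intro f hf h1
    apply hf
    have : f = h * (h⁻¹ * f * h) * h⁻¹ := by group
    rw [this, h1]; group
  have h3 := S.eq_of_not_mem (h := h⁻¹ * k) (hh f hf) (hh g hg) (hne f hf1) (hne g hg1)
    (by
      have : (h⁻¹ * k)⁻¹ * (h⁻¹ * f * h) * (h⁻¹ * k) = k⁻¹ * f * k := by group
      rw [this]; exact hk f hf)
    (by
      have : (h⁻¹ * k)⁻¹ * (h⁻¹ * g * h) * (h⁻¹ * k) = k⁻¹ * g * k := by group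
      rw [this]; exact hk g hg) hD
  have h4 : f = h * (h⁻¹ * f * h) * h⁻¹ := by group
  rw [h4, h3]; group

/-- if `h⁻¹ w ∈ D` for points `h e ≠ w` then some conjugate of an element of `X` under `h` moves `w`
to `w + h e` and centralises `X^h` -/
theorem exists_move (S : Sys b H X D e) {h : V ≃ₗ[ZMod 2] V} {w : V}
    (hD : h⁻¹ w ∈ D) (h0 : w ≠ 0) (hne : w ≠ h e) :
    ∃ x ∈ X, (h * x * h⁻¹) w = w + h e := by
  obtain ⟨φ, h1, h2⟩ := exists_functional (e := e) (d := h⁻¹ w)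
    (by
      intro h3
      apply h0
      have := apply_inv h w
      rw [h3, map_zero] at this
      exact this.symm)
    (by
      intro h3
      apply hne
      rw [← h3, apply_inv])
  obtain ⟨x, hx, hx'⟩ := S.full φ h1
  refine ⟨x, hx, ?_⟩
  have h3 := hx' _ hD
  rw [h2, one_smul] at h3
  show h (x (h⁻¹ w)) = w + h e
  rw [h3, map_add, apply_inv]

/-- (N3) `Pts B ∪ {0}` is closed under addition -/
theorem pts_add [Finite V] (S : Sys b H X D e) {B : Set (V ≃ₗ[ZMod 2] V)}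
    {f g : V ≃ₗ[ZMod 2] V} (hf : f ∈ B) (hg : g ∈ B) (hf1 : f ≠ 1) (hg1 : g ≠ 1) (hfg : f ≠ g)
    {v w : V} (hv : v ∈ Pts H X e B) (hw : w ∈ Pts H X e B) (hvw : v ≠ w) :
    v + w ∈ Pts H X e B := by
  obtain ⟨h, hh, rfl, hhB⟩ := hv
  obtain ⟨k, hk, rfl, hkB⟩ := hw
  have hD := S.mem_D_of_pts hf hg hf1 hg1 hfg hhB hkB
  obtain ⟨x, hx, hxw⟩ := S.exists_move (h := h) (w := k e) hD
    (by
      intro h1
      apply S.ne
      have := inv_apply k e
      rw [h1, map_zero] at this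
      exact this.symm)
    (fun h1 => hvw h1.symm)
  refine ⟨h * x * h⁻¹ * k, H.mul_mem (H.mul_mem (H.mul_mem hh (S.X_le hx)) (H.inv_mem hh)) hk, ?_, ?_⟩
  · show (h * x * h⁻¹) (k e) = h e + k e
    rw [hxw, add_comm]
  · intro f hf
    have h1 := S.X_comm _ hx _ (hhB f hf)
    have h2 : (h * x * h⁻¹) * f = f * (h * x * h⁻¹) := by
      calc (h * x * h⁻¹) * f = h * (x * (h⁻¹ * f * h)) * h⁻¹ := by group
        _ = h * ((h⁻¹ * f * h) * x) * h⁻¹ := by rw [h1]
        _ = f * (h * x * h⁻¹) := by group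
    have h3 : (h * x * h⁻¹ * k)⁻¹ * f * (h * x * h⁻¹ * k) = k⁻¹ * f * k := by
      calc (h * x * h⁻¹ * k)⁻¹ * f * (h * x * h⁻¹ * k)
          = k⁻¹ * (h * x * h⁻¹)⁻¹ * (f * (h * x * h⁻¹)) * k := by group
        _ = k⁻¹ * (h * x * h⁻¹)⁻¹ * ((h * x * h⁻¹) * f) * k := by rw [h2]
        _ = k⁻¹ * f * k := by group
    rw [h3]; exact hkB f hf

/-- (N4) an element of `H` normalising `X` fixes `e`, provided `X` has two nontrivial elements -/
theorem fix_of_normalize [Finite V] (S : Sys b H X D e) {f g : V ≃ₗ[ZMod 2] V} (hf : f ∈ X)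
    (hg : g ∈ X) (hf1 : f ≠ 1) (hg1 : g ≠ 1) (hfg : f ≠ g) {k : V ≃ₗ[ZMod 2] V}
    (hN : ∀ x ∈ X, k⁻¹ * x * k ∈ X) : k e = e := by
  by_contra hne
  have hD := S.mem_D_of_pts (B := (X : Set (V ≃ₗ[ZMod 2] V))) (h := 1) (k := k) hf hg hf1 hg1 hfg
    (fun f hf => by
      have : (1 : V ≃ₗ[ZMod 2] V)⁻¹ * f * 1 = f := by group
      rw [this]; exact hf) (fun x hx => hN x hx)
  obtain ⟨x, hx, hxw⟩ := S.exists_move (h := 1) (w := k e) hD
    (by
      intro h1
      apply S.ne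
      have := inv_apply k e
      rw [h1, map_zero] at this
      exact this.symm) (fun h1 => hne (h1.trans rfl))
  have h1 : x (k e) = k e + e := by
    have : (1 * x * (1 : V ≃ₗ[ZMod 2] V)⁻¹) = x := by group
    rw [this] at hxw
    exact hxw
  have h2 : x (k e) = k e := by
    have h3 := S.X_e _ (hN x hx)
    have h4 : k ((k⁻¹ * x * k) e) = x (k e) := apply_inv k _
    rw [← h4, h3]
  rw [h2] at h1
  have := eq_add_iff.1 h1
  rw [self] at this
  exact S.ne this.symm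

/-- an element of `H` centralising `X` satisfies `c ^ 4 = 1` -/
theorem pow_four_of_cent [Finite V] (S : Sys b H X D e) {c : V ≃ₗ[ZMod 2] V} (hc : c ∈ H)
    (hce : c e = e) (hX : ∀ x ∈ X, c * x = x * c) : c ^ 4 = 1 := by
  have hcx : ∀ x ∈ X, ∀ v, c (x v) = x (c v) := fun x hx v =>
    congrArg (fun g : V ≃ₗ[ZMod 2] V => g v) (hX x hx)
  have hb : ∀ v, b e (c v) = b e v := by
    intro v
    nth_rewrite 1 [← hce]
    exact S.inv c hc _ _
  obtain ⟨v0, hv0⟩ := S.exists_one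
  -- (1) on `V / e^⊥`
  have s1 : ∀ v, b e (c v + v) = 0 := by
    intro v
    rw [map_add, hb, ← two_mul, show (2 : ZMod 2) = 0 from rfl, zero_mul]
  -- (2) on `e^⊥ / D`
  have s2 : ∀ s, b e s = 0 → c s + s ∈ D := by
    intro s hs
    obtain ⟨f, hf, hfs⟩ := S.surj v0 s hv0 hs
    -- `s = f v0 + v0 + d`
    have h1 : c (f v0 + v0 + s) ∈ D := S.D_inv c hc hce _ hfs
    have h2 : f (c v0 + v0) + (c v0 + v0) ∈ D := S.X_perp f hf _ (s1 v0)
    have h3 : c s + s = c (f v0 + v0 + s) + (f v0 + v0 + s) + (f (c v0 + v0) + (c v0 + v0)) := by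
      rw [map_add, map_add, map_add, hcx f hf]
      have : f (c v0) + c v0 + c s + (f v0 + v0 + s) + (f (c v0) + f v0 + (c v0 + v0)) =
        c s + s + ((f (c v0) + f (c v0)) + (c v0 + c v0) + (f v0 + f v0) + (v0 + v0)) := by abel
      rw [this]
      simp only [self, add_zero]
    rw [h3]
    exact D.add_mem (D.add_mem h1 hfs) h2
  -- (3) on `D / ⟨e⟩`
  have s3 : ∀ d ∈ D, c d + d = 0 ∨ c d + d = e := by
    intro d hd
    by_contra hcon
    push Not at hcon
    have hcd : c d + d ∈ D := D.add_mem (S.D_inv c hc hce d hd) hd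
    obtain ⟨x, hx, hxw⟩ := S.exists_move (h := 1) (w := c d + d) hcd hcon.1 hcon.2
    have e1 : (1 * x * (1 : V ≃ₗ[ZMod 2] V)⁻¹) = x := by group
    rw [e1, show (1 : V ≃ₗ[ZMod 2] V) e = e from rfl] at hxw
    have h1 : x (c d + d) = c d + d := by
      rw [map_add, ← hcx x hx]
      rcases S.X_D x hx d hd with h2 | h2
      · rw [h2]
      · rw [h2, map_add, hce]
        have : c d + e + (d + e) = c d + d + (e + e) := by abel
        rw [this, self, add_zero]
    rw [h1] at hxw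
    have := eq_add_iff.1 hxw
    rw [self] at this
    exact S.ne this.symm
  -- the nilpotent map `n = c + 1`
  have n4 : ∀ v, c (c (c (c v))) = v := by
    intro v
    have t : ∀ v, c (c v) + v = c (c v + v) + (c v + v) := by
      intro v
      rw [map_add]
      have : c (c v) + c v + (c v + v) = c (c v) + v + (c v + c v) := by abel
      rw [this, self, add_zero]
    -- `u = n^2 v ∈ D`
    have h1 : c (c v) + v ∈ D := by
      rw [t]; exact s2 _ (s1 v)
    -- `n^4 v = n^2 u = 0`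
    have h2 : c (c (c (c v) + v)) + (c (c v) + v) = 0 := by
      rw [t]
      rcases s3 _ h1 with h3 | h3
      · rw [h3, map_zero, add_zero]
      · rw [h3, hce, self]
    rw [map_add, map_add] at h2
    have h3 : c (c (c (c v))) + c (c v) + (c (c v) + v) = c (c (c (c v))) + v := by
      have : c (c (c (c v))) + c (c v) + (c (c v) + v) =
        c (c (c (c v))) + v + (c (c v) + c (c v)) := by abel
      rw [this, self, add_zero]
    rw [h3] at h2
    have := eq_add_iff.2 h2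
    rw [add_zero] at this
    have h5 : c (c (c (c v))) + v + v = 0 + v := by rw [h2]
    rw [cancel, zero_add] at h5
    exact h5
  ext v
  exact n4 v

end Sys

end Cfsg.Agent.Omega.W5.NearTI
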