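import Cfsg.Agent.Omega.W5.NearTI

/-!
# Normal subgroups of `H` centralised by two elements of `X` (helper947; blueprint (N5))

`Nor`: `N` is normal in `H` and centralised by two distinct nontrivial elements of `X`.
* `NorX`: the same for `N` normalised by `X` only; `NorX.cl`: the `N`-orbit of `e`, together with `0`, is closed
  under addition; `NorX.exists_transv_three`: `N` induces all transvections on the span of the orbit if its
  dimension is at least three;
* `Nor.finrank_le` : if `|H : C_H(e)|` is odd and `b (e, h e) = 1` for some `h ∈ H`, the span of the `N`-orbit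
  of `e` has dimension at most two (parity of the number of homogeneous components);
-/

set_option autoImplicit false

namespace Cfsg.Agent.Omega.W5.Parity

open Cfsg.Agent.Omega.W5.NearTI Module

variable {V : Type*} [AddCommGroup V] [Module (ZMod 2) V]

/-- the span of the `N`-orbit of `v` -/
def U (N : Subgroup (V ≃ₗ[ZMod 2] V)) (v : V) : Submodule (ZMod 2) V :=
  Submodule.span (ZMod 2) {w | ∃ n ∈ N, n v = w}

/-- the orbit of `v`, with `0`, is closed under addition -/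
def Cl (N : Subgroup (V ≃ₗ[ZMod 2] V)) (v : V) : Prop :=
  ∀ n ∈ N, ∀ m ∈ N, n v ≠ m v → ∃ k ∈ N, k v = n v + m v

/-- `N`-homomorphisms from `U N v` to `U N w` -/
def Sim (N : Subgroup (V ≃ₗ[ZMod 2] V)) (v w : V) : Prop :=
  ∃ θ : V →ₗ[ZMod 2] V, (∀ n ∈ N, θ (n v) = n (θ v)) ∧ ∃ m ∈ N, θ v = m w

section abs

variable {N : Subgroup (V ≃ₗ[ZMod 2] V)}

theorem orb_mem {v : V} {n : V ≃ₗ[ZMod 2] V} (hn : n ∈ N) : n v ∈ U N v :=
  Submodule.subset_span ⟨n, hn, rfl⟩

theorem self_mem (v : V) : v ∈ U N v := orb_mem (n := 1) N.one_mem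

theorem U_inv {v : V} {n : V ≃ₗ[ZMod 2] V} (hn : n ∈ N) {x : V} (hx : x ∈ U N v) :
    n x ∈ U N v := by
  induction hx using Submodule.span_induction with
  | mem x hx =>
    obtain ⟨m, hm, rfl⟩ := hx
    exact orb_mem (n := n * m) (N.mul_mem hn hm)
  | zero => rw [map_zero]; exact (U N v).zero_mem
  | add x y _ _ hx hy => rw [map_add]; exact (U N v).add_mem hx hy
  | smul c x _ hx => rw [map_smul]; exact (U N v).smul_mem c hx

theorem mem_U {v : V} (h : Cl N v) {w : V} : w ∈ U N v ↔ w = 0 ∨ ∃ n ∈ N, n v = w := by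
  constructor
  · intro hw
    induction hw using Submodule.span_induction with
    | mem x hx => exact Or.inr hx
    | zero => exact Or.inl rfl
    | add x y _ _ hx hy =>
      rcases hx with rfl | ⟨n, hn, rfl⟩
      · rw [zero_add]; exact hy
      · rcases hy with rfl | ⟨m, hm, rfl⟩
        · rw [add_zero]; exact Or.inr ⟨n, hn, rfl⟩
        · by_cases hnm : n v = m v
          · left; rw [hnm, self]
          · exact Or.inr (h n hn m hm hnm)
    | smul c x _ hx =>
      rcases two c with rfl | rfl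
      · left; rw [zero_smul]
      · rw [one_smul]; exact hx
  · rintro (rfl | ⟨n, hn, rfl⟩)
    · exact (U N v).zero_mem
    · exact orb_mem hn

/-- equivariance on the whole span -/
theorem equi {v : V} {θ : V →ₗ[ZMod 2] V} (hθ : ∀ n ∈ N, θ (n v) = n (θ v)) {n : V ≃ₗ[ZMod 2] V}
    (hn : n ∈ N) {x : V} (hx : x ∈ U N v) : θ (n x) = n (θ x) := by
  induction hx using Submodule.span_induction with
  | mem x hx =>
    obtain ⟨m, hm, rfl⟩ := hx
    have h1 := hθ (n * m) (N.mul_mem hn hm)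
    rw [mul_apply, mul_apply] at h1
    rw [h1, hθ m hm]
  | zero => simp only [map_zero]
  | add x y _ _ hx hy => simp only [map_add, hx, hy]
  | smul c x _ hx => simp only [map_smul, hx]

theorem Sim.refl (v : V) : Sim N v v := ⟨LinearMap.id, fun _ _ => rfl, 1, N.one_mem, rfl⟩

theorem Sim.trans {u v w : V} (h1 : Sim N u v) (h2 : Sim N v w) : Sim N u w := by
  obtain ⟨θ, hθ, m, hm, hm'⟩ := h1
  obtain ⟨η, hη, k, hk, hk'⟩ := h2
  refine ⟨η ∘ₗ θ, fun n hn => ?_, m * k, N.mul_mem hm hk, ?_⟩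
  · show η (θ (n u)) = n (η (θ u))
    rw [hθ n hn, hm', hη m hm, ← mul_apply n m v, hη _ (N.mul_mem hn hm)]
    rfl
  · show η (θ u) = m (k w)
    rw [hm', hη m hm, hk']

theorem Sim.smul {v w : V} {h : V ≃ₗ[ZMod 2] V} (hN : ∀ n ∈ N, h * n * h⁻¹ ∈ N)
    (hN' : ∀ n ∈ N, h⁻¹ * n * h ∈ N) (h1 : Sim N v w) : Sim N (h v) (h w) := by
  obtain ⟨θ, hθ, m, hm, hm'⟩ := h1
  refine ⟨(h : V →ₗ[ZMod 2] V) ∘ₗ θ ∘ₗ (h⁻¹ : V ≃ₗ[ZMod 2] V), fun n hn => ?_, h * m * h⁻¹,
    hN m hm, ?_⟩
  · show h (θ (h⁻¹ (n (h v)))) = n (h (θ (h⁻¹ (h v))))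
    have h2 : h⁻¹ (n (h v)) = (h⁻¹ * n * h) v := rfl
    rw [h2, hθ _ (hN' n hn), inv_apply]
    show h (h⁻¹ (n (h (θ v)))) = _
    rw [apply_inv]
  · show h (θ (h⁻¹ (h v))) = h (m (h⁻¹ (h w)))
    rw [inv_apply, inv_apply, hm']

theorem map_U {v : V} {h : V ≃ₗ[ZMod 2] V} (hN : ∀ n ∈ N, h * n * h⁻¹ ∈ N)
    (hN' : ∀ n ∈ N, h⁻¹ * n * h ∈ N) :
    (U N v).map (h : V →ₗ[ZMod 2] V) = U N (h v) := by
  rw [U, U, Submodule.map_span]
  congr 1
  ext w
  constructor
  · rintro ⟨_, ⟨n, hn, rfl⟩, rfl⟩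
    refine ⟨h * n * h⁻¹, hN n hn, ?_⟩
    show h (n (h⁻¹ (h v))) = h (n v)
    rw [inv_apply]
  · rintro ⟨n, hn, rfl⟩
    refine ⟨(h⁻¹ * n * h) v, ⟨_, hN' n hn, rfl⟩, ?_⟩
    show h (h⁻¹ (n (h v))) = _
    rw [apply_inv]

theorem finrank_U {v : V} {h : V ≃ₗ[ZMod 2] V} (hN : ∀ n ∈ N, h * n * h⁻¹ ∈ N)
    (hN' : ∀ n ∈ N, h⁻¹ * n * h ∈ N) : finrank (ZMod 2) (U N (h v)) = finrank (ZMod 2) (U N v) := by
  rw [← map_U hN hN']
  exact LinearEquiv.finrank_map_eq h (U N v)

/-- duality -/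
theorem Sim.dual [Finite V] {b : LinearMap.BilinForm (ZMod 2) V}
    (hb : ∀ n ∈ N, ∀ v w, b (n v) (n w) = b v w)
    {v v' u u' : V} (hu' : Cl N u')
    (hdim : finrank (ZMod 2) (U N u') = finrank (ZMod 2) (U N v)) (h : Sim N v v')
    (h1 : b v u = 1) (h2 : b v' u' = 1) : Sim N u u' := by
  have : Module.Finite (ZMod 2) V := Module.Finite.of_finite
  obtain ⟨α, hα, m, hm, hm'⟩ := h
  -- `L y' = b (α ·, y')` on `U N v`
  let R : (W : Submodule (ZMod 2) V) → (V →ₗ[ZMod 2] V) →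
      V →ₗ[ZMod 2] Module.Dual (ZMod 2) W := fun W α =>
    { toFun := fun y => (b.flip y).comp (α.comp W.subtype)
      map_add' := by intro x y; ext w; simp
      map_smul' := by intro c y; ext w; simp }
  let L : U N u' →ₗ[ZMod 2] Module.Dual (ZMod 2) (U N v) := (R (U N v) α).comp (U N u').subtype
  have hL : ∀ (y : U N u') (x : U N v), L y x = b (α x) y := fun y x => rfl
  have hinj : Function.Injective L := by
    rw [← LinearMap.ker_eq_bot, LinearMap.ker_eq_bot']
    intro y hy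
    rcases (mem_U hu').1 y.2 with h3 | ⟨n, hn, h3⟩
    · exact Subtype.ext h3
    · exfalso
      have h4 : L y ⟨(n * m⁻¹) v, orb_mem (N.mul_mem hn (N.inv_mem hm))⟩ = 1 := by
        rw [hL]
        show b (α ((n * m⁻¹) v)) y = 1
        rw [hα _ (N.mul_mem hn (N.inv_mem hm)), hm', ← h3]
        show b (n (m⁻¹ (m v'))) (n u') = 1
        rw [inv_apply, hb n hn, h2]
      rw [hy] at h4
      exact zero_ne_one h4
  have hsur : Function.Surjective L := by
    apply (LinearMap.injective_iff_surjective_of_finrank_eq_finrank _).1 hinj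
    rw [Subspace.dual_finrank_eq, hdim]
  let E := LinearEquiv.ofBijective L ⟨hinj, hsur⟩
  have hE : ∀ φ, L (E.symm φ) = φ := fun φ => E.apply_symm_apply φ
  let ψ : V →ₗ[ZMod 2] V := (U N u').subtype ∘ₗ (E.symm : _ →ₗ[ZMod 2] _) ∘ₗ R (U N v) LinearMap.id
  have hψ : ∀ y (x : V), x ∈ U N v → b (α x) (ψ y) = b x y := by
    intro y x hx
    have h3 := hE (R (U N v) LinearMap.id y)
    have h4 := congrArg (fun φ : Module.Dual (ZMod 2) (U N v) => φ ⟨x, hx⟩) h3
    exact h4
  have hψm : ∀ y, ψ y ∈ U N u' := fun y => (E.symm _).2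
  refine ⟨ψ, fun n hn => ?_, ?_⟩
  · have h3 : (⟨ψ (n u), hψm _⟩ : U N u') = ⟨n (ψ u), U_inv hn (hψm u)⟩ := by
      apply hinj
      ext x
      rw [hL, hL]
      show b (α x) (ψ (n u)) = b (α x) (n (ψ u))
      rw [hψ _ _ x.2]
      have h4 : b (α x) (n (ψ u)) = b (n⁻¹ (α x)) (ψ u) := by
        rw [← hb n hn (n⁻¹ (α x)) (ψ u), apply_inv]
      rw [h4, ← equi hα (N.inv_mem hn) x.2, hψ _ _ (U_inv (N.inv_mem hn) x.2),
        ← hb n hn (n⁻¹ (x : V)) u, apply_inv]
    exact congrArg Subtype.val h3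
  · rcases (mem_U hu').1 (hψm u) with h3 | ⟨n, hn, h3⟩
    · exfalso
      have h4 := hψ u v (self_mem v)
      rw [h3, map_zero, h1] at h4
      exact zero_ne_one h4
    · exact ⟨n, hn, h3.symm⟩

end abs

/-- `N ≤ H` normalised by `X`, centralised by two nontrivial elements of `X` -/
structure NorX (b : LinearMap.BilinForm (ZMod 2) V) (H X : Subgroup (V ≃ₗ[ZMod 2] V))
    (D : Submodule (ZMod 2) V) (e : V) (N : Subgroup (V ≃ₗ[ZMod 2] V))
    (f g : V ≃ₗ[ZMod 2] V) : Prop where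
  sys : Sys b H X D e
  le : N ≤ H
  normX : ∀ x ∈ X, ∀ n ∈ N, x * n * x⁻¹ ∈ N
  f_mem : f ∈ X
  g_mem : g ∈ X
  f_ne : f ≠ 1
  g_ne : g ≠ 1
  ne : f ≠ g
  f_cent : ∀ n ∈ N, n * f = f * n
  g_cent : ∀ n ∈ N, n * g = g * n

variable {b : LinearMap.BilinForm (ZMod 2) V} {H X : Subgroup (V ≃ₗ[ZMod 2] V)}
  {D : Submodule (ZMod 2) V} {e : V} {N : Subgroup (V ≃ₗ[ZMod 2] V)} {f g : V ≃ₗ[ZMod 2] V}

namespace NorX

theorem normX' (S : NorX b H X D e N f g) {x : V ≃ₗ[ZMod 2] V} (hx : x ∈ X)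
    {n : V ≃ₗ[ZMod 2] V} (hn : n ∈ N) : x⁻¹ * n * x ∈ N := by
  have := S.normX _ (X.inv_mem hx) n hn
  rwa [inv_inv] at this

theorem mem_D [Finite V] (S : NorX b H X D e N f g) {n m : V ≃ₗ[ZMod 2] V} (hn : n ∈ N)
    (hm : m ∈ N) : n⁻¹ (m e) ∈ D := by
  have key : ∀ n ∈ N, ∀ k ∈ ({f, g} : Set (V ≃ₗ[ZMod 2] V)), n⁻¹ * k * n ∈ X := by
    rintro n hn k (rfl | rfl)
    · have : n⁻¹ * k * n = k := by
        have := S.f_cent n hn
        calc n⁻¹ * k * n = n⁻¹ * (k * n) := by group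
          _ = n⁻¹ * (n * k) := by rw [this]
          _ = k := by group
      rw [this]; exact S.f_mem
    · have : n⁻¹ * k * n = k := by
        have := S.g_cent n hn
        calc n⁻¹ * k * n = n⁻¹ * (k * n) := by group
          _ = n⁻¹ * (n * k) := by rw [this]
          _ = k := by group
      rw [this]; exact S.g_mem
  exact S.sys.mem_D_of_pts (B := {f, g}) (Set.mem_insert _ _) (Set.mem_insert_of_mem _ rfl)
    S.f_ne S.g_ne S.ne (key n hn) (key m hm)

theorem U_le_D [Finite V] (S : NorX b H X D e N f g) : U N e ≤ D := by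
  apply Submodule.span_le.2
  rintro _ ⟨n, hn, rfl⟩
  have := S.mem_D N.one_mem hn
  exact this

theorem orb_ne (S : NorX b H X D e N f g) (n : V ≃ₗ[ZMod 2] V) : n e ≠ 0 := by
  intro (h : n e = 0)
  apply S.sys.ne
  have := inv_apply n e
  rw [h, map_zero] at this
  exact this.symm

/-- the elements `n x n⁻¹` -/
theorem exists_move (S : NorX b H X D e N f g) [Finite V] {n m : V ≃ₗ[ZMod 2] V} (hn : n ∈ N)
    (hm : m ∈ N) (hne : n e ≠ m e) : ∃ x ∈ X, (n * x * n⁻¹) (m e) = m e + n e :=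
  S.sys.exists_move (S.mem_D hn hm) (S.orb_ne m) fun h => hne h.symm

theorem cl [Finite V] (S : NorX b H X D e N f g) : Cl N e := by
  intro n hn m hm hne
  obtain ⟨x, hx, hxm⟩ := S.exists_move hn hm hne
  have hy : ∀ k ∈ N, (n * x * n⁻¹) * k * (n * x * n⁻¹)⁻¹ ∈ N := by
    intro k hk
    have : (n * x * n⁻¹) * k * (n * x * n⁻¹)⁻¹ = n * (x * (n⁻¹ * k * n) * x⁻¹) * n⁻¹ := by group
    rw [this]
    exact N.mul_mem (N.mul_mem hn (S.normX x hx _ (N.mul_mem (N.mul_mem (N.inv_mem hn) hk) hn)))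
      (N.inv_mem hn)
  refine ⟨(n * x * n⁻¹) * (m * n⁻¹) * (n * x * n⁻¹)⁻¹ * n,
    N.mul_mem (hy _ (N.mul_mem hm (N.inv_mem hn))) hn, ?_⟩
  have h1 : (n * x * n⁻¹)⁻¹ (n e) = n e := by
    have h2 : (n * x * n⁻¹) (n e) = n e := by
      show n (x (n⁻¹ (n e))) = n e
      rw [inv_apply, S.sys.X_e x hx]
    nth_rewrite 1 [← h2]
    exact inv_apply _ _
  show (n * x * n⁻¹) (m (n⁻¹ ((n * x * n⁻¹)⁻¹ (n e)))) = n e + m e
  rw [h1, inv_apply, hxm, add_comm]

/-- transvections: `y ∈ X N` with `y u = u + φ u • c` on `U N e` -/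
theorem exists_transv [Finite V] (S : NorX b H X D e N f g) {c : V} (hc : c ∈ U N e)
    (hc0 : c ≠ 0) (φ : V →ₗ[ZMod 2] ZMod 2) (hφ : φ c = 0) :
    ∃ x ∈ X, ∃ m ∈ N, ∀ u ∈ U N e, (x * m) u = u + φ u • c := by
  obtain ⟨n, hn, rfl⟩ : ∃ n ∈ N, n e = c := ((mem_U S.cl).1 hc).resolve_left hc0
  obtain ⟨x, hx, hx'⟩ := S.sys.full (φ ∘ₗ (n : V →ₗ[ZMod 2] V)) hφ
  refine ⟨x, hx, x⁻¹ * n * x * n⁻¹, N.mul_mem (S.normX' hx hn) (N.inv_mem hn), ?_⟩
  intro u hu
  have e1 : x * (x⁻¹ * n * x * n⁻¹) = n * x * n⁻¹ := by group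
  rw [e1]
  show n (x (n⁻¹ u)) = _
  rw [hx' _ (S.U_le_D (U_inv (N.inv_mem hn) hu)), map_add, map_smul, apply_inv]
  show u + φ (n (n⁻¹ u)) • n e = _
  rw [apply_inv]

/-- commutators of such elements lie in `N` -/
theorem comm_mem (S : NorX b H X D e N f g) {x x' m m' : V ≃ₗ[ZMod 2] V} (hx : x ∈ X)
    (hx' : x' ∈ X) (hm : m ∈ N) (hm' : m' ∈ N) :
    (x * m) * (x' * m') * ((x' * m') * (x * m))⁻¹ ∈ N := by
  have h1 := S.sys.X_comm x hx x' hx'
  have e1 : (x * m) * (x' * m') * ((x' * m') * (x * m))⁻¹ =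
      (x * x') * ((x'⁻¹ * m * x') * m' * m⁻¹ * (x⁻¹ * m'⁻¹ * x)) * (x * x')⁻¹ := by
    have e2 : (x * m) * (x' * m') * ((x' * m') * (x * m))⁻¹ =
      (x * x') * ((x'⁻¹ * m * x') * m' * m⁻¹ * (x⁻¹ * m'⁻¹ * x)) * (x' * x)⁻¹ := by group
    rw [e2, h1]
  rw [e1]
  apply S.normX _ (X.mul_mem hx hx')
  exact N.mul_mem (N.mul_mem (N.mul_mem (S.normX' hx' hm) hm') (N.inv_mem hm))
    (S.normX' hx (N.inv_mem hm'))

/-- if `U N e` contains a further vector of the kernel of `φ`, the transvection is induced by `N` -/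
theorem exists_transv_N [Finite V] (S : NorX b H X D e N f g) {c d : V} (hc : c ∈ U N e)
    (hc0 : c ≠ 0) (hd : d ∈ U N e) (hd0 : d ≠ 0) (hdc : d ≠ c)
    (φ : V →ₗ[ZMod 2] ZMod 2) (hφ : φ c = 0) (hφd : φ d = 0) :
    ∃ n ∈ N, ∀ u ∈ U N e, n u = u + φ u • c := by
  obtain ⟨ψ, h1, h2⟩ := exists_functional (e := c) (d := d) hd0 hdc
  obtain ⟨x, hx, m, hm, hxm⟩ := S.exists_transv hc hc0 ψ h1
  obtain ⟨x', hx', m', hm', hxm'⟩ := S.exists_transv hd hd0 φ hφd
  refine ⟨_, S.comm_mem hx hx' hm hm', ?_⟩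
  have key : ∀ u ∈ U N e, (x * m) ((x' * m') u) = (x' * m') ((x * m) u) + φ u • c := by
    intro u hu
    rw [hxm' u hu, hxm u hu, map_add, map_smul, map_add, map_smul, hxm u hu, hxm d hd,
      hxm' u hu, hxm' c hc, h2, hφ, zero_smul, add_zero, one_smul, smul_add]
    abel
  -- `w = y₂ y₁ u`
  intro w hw
  set y := (x' * m') * (x * m) with hy
  have hyU : ∀ u ∈ U N e, y u ∈ U N e := by
    intro u hu
    show (x' * m') ((x * m) u) ∈ U N e
    rw [hxm u hu, map_add, map_smul, hxm' u hu, hxm' c hc]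
    refine (U N e).add_mem ((U N e).add_mem hu ((U N e).smul_mem _ hd)) ((U N e).smul_mem _ ?_)
    exact (U N e).add_mem hc ((U N e).smul_mem _ hd)
  have hyinj : ∃ u ∈ U N e, y u = w := by
    -- the restriction of `y` to `U N e` is surjective
    have hf : Function.Injective (fun u : U N e => (⟨y u, hyU u u.2⟩ : U N e)) := by
      intro u u' huu
      exact Subtype.ext (y.injective (congrArg Subtype.val huu))
    obtain ⟨u, hu⟩ := Finite.surjective_of_injective hf ⟨w, hw⟩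
    exact ⟨u, u.2, congrArg Subtype.val hu⟩
  obtain ⟨u, hu, rfl⟩ := hyinj
  have h3 : (x * m * (x' * m') * y⁻¹) (y u) = (x * m) ((x' * m') u) := by
    show (x * m) ((x' * m') (y⁻¹ (y u))) = _
    rw [inv_apply]
  rw [h3, key u hu]
  have h4 : φ (y u) = φ u := by
    show φ ((x' * m') ((x * m) u)) = φ u
    rw [hxm u hu, map_add, map_smul, hxm' u hu, hxm' c hc]
    simp only [map_add, map_smul, hφ, hφd, smul_zero, add_zero]
  rw [h4]
  rfl

/-- a vector of `U N e` outside the span of two, if the dimension is at least three -/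
theorem exists_out [Finite V] (h3 : 3 ≤ finrank (ZMod 2) (U N e)) (c y : V) :
    ∃ x ∈ U N e, x ∉ Submodule.span (ZMod 2) ({c, y} : Set V) := by
  have : Module.Finite (ZMod 2) V := Module.Finite.of_finite
  by_contra hcon
  push Not at hcon
  have h1 : U N e ≤ Submodule.span (ZMod 2) ({c, y} : Set V) := hcon
  have h2 := Submodule.finrank_mono h1
  have h4 : finrank (ZMod 2) (Submodule.span (ZMod 2) ({c, y} : Set V)) ≤ 2 := by
    classical
    have h5 := finrank_span_finset_le_card (R := ZMod 2) ({c, y} : Finset V)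
    have h6 : (({c, y} : Finset V) : Set V) = {c, y} := by simp
    rw [Set.finrank, h6] at h5
    exact h5.trans Finset.card_le_two
  omega

/-- `N` induces all transvections on `U N e` if the dimension is at least three -/
theorem exists_transv_three [Finite V] (S : NorX b H X D e N f g)
    (h3 : 3 ≤ finrank (ZMod 2) (U N e)) {c : V} (hc : c ∈ U N e) (hc0 : c ≠ 0)
    (φ : V →ₗ[ZMod 2] ZMod 2) (hφ : φ c = 0) :
    ∃ n ∈ N, ∀ u ∈ U N e, n u = u + φ u • c := by
  by_cases hx : ∃ x ∈ U N e, φ x = 1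
  · obtain ⟨x, hxU, hx⟩ := hx
    obtain ⟨d, hd, hd'⟩ := exists_out (e := e) (N := N) h3 c x
    have hd1 : d + φ d • x ∈ U N e := (U N e).add_mem hd ((U N e).smul_mem _ hxU)
    have hspan : φ d • x ∈ Submodule.span (ZMod 2) ({c, x} : Set V) :=
      Submodule.smul_mem _ _ (Submodule.subset_span (Set.mem_insert_of_mem _ rfl))
    apply S.exists_transv_N hc hc0 hd1 _ _ φ hφ
    · rw [map_add, map_smul, hx, smul_eq_mul, mul_one, ← two_mul, show (2 : ZMod 2) = 0 from rfl,
        zero_mul]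
    · intro h
      apply hd'
      have h1 : d = φ d • x + 0 := by rw [← h, add_comm d, ← add_assoc, self, zero_add]
      rw [h1, add_zero]; exact hspan
    · intro h
      apply hd'
      have h1 : d = φ d • x + c := by rw [← h, add_comm d, ← add_assoc, self, zero_add]
      rw [h1]
      exact Submodule.add_mem _ hspan (Submodule.subset_span (Set.mem_insert _ _))
  · refine ⟨1, N.one_mem, fun u hu => ?_⟩
    have h1 : φ u = 0 := by
      rcases two (φ u) with h | h
      · exact h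
      · exact absurd ⟨u, hu, h⟩ hx
    rw [h1, zero_smul, add_zero]
    rfl

/-- `U N e` is not self-dual if its dimension is at least three -/
theorem not_sim [Finite V] (S : NorX b H X D e N f g) (h3 : 3 ≤ finrank (ZMod 2) (U N e))
    {u : V} (hu : b e u = 1) : ¬ Sim N e u := by
  have : Module.Finite (ZMod 2) V := Module.Finite.of_finite
  rintro ⟨θ, hθ, m, hm, hm'⟩
  have hbN : ∀ n ∈ N, ∀ v w, b (n v) (n w) = b v w := fun n hn => S.sys.inv n (S.le hn)
  have key : ∀ c ∈ U N e, c ≠ 0 → ∀ y ∈ U N e, y ≠ 0 → y ≠ c → b c (θ y) = 0 := by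
    intro c hc hc0 y hy hy0 hyc
    obtain ⟨x, hx, hx'⟩ := exists_out (e := e) (N := N) h3 c y
    obtain ⟨φ, h1, h2⟩ := Submodule.exists_le_ker_of_notMem hx'
    have h4 : φ c = 0 := h2 (Submodule.subset_span (Set.mem_insert _ _))
    have h5 : φ y = 0 := h2 (Submodule.subset_span (Set.mem_insert_of_mem _ rfl))
    obtain ⟨n, hn, hn'⟩ := S.exists_transv_N hc hc0 hy hy0 hyc φ h4 h5
    have h6 := hbN n hn x (θ y)
    rw [← equi hθ hn hy, hn' x hx, hn' y hy, h5, two_ne h1, zero_smul, add_zero, one_smul,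
      map_add, LinearMap.add_apply] at h6
    exact add_eq_left.1 h6
  have hme : b (m e) (θ e) = 1 := by rw [hm', hbN m hm, hu]
  have hmU : m e ∈ U N e := orb_mem hm
  have heU : e ∈ U N e := self_mem e
  by_cases h1 : e = m e
  · obtain ⟨y, hy, hy'⟩ := exists_out (e := e) (N := N) h3 e e
    have hy0 : y ≠ 0 := fun h => hy' (h ▸ Submodule.zero_mem _)
    have hye : y ≠ e := fun h => hy' (h ▸ Submodule.subset_span (Set.mem_insert _ _))
    have h4 := key e heU S.sys.ne y hy hy0 hye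
    have h5 := key e heU S.sys.ne (y + e) ((U N e).add_mem hy heU)
      (fun h => hye (by
        have := eq_add_iff (u := y) (v := e) (w := 0)
        rw [add_zero] at this
        exact this.2 h))
      (fun h => hy0 (add_eq_right.1 h))
    rw [map_add, map_add, h4, zero_add] at h5
    rw [← h1, h5] at hme
    exact zero_ne_one hme
  · have h4 := key (m e) hmU (S.orb_ne m) e heU S.sys.ne h1
    rw [h4] at hme
    exact zero_ne_one hme

end NorX

/-- `N` normal in `H`, centralised by two nontrivial elements of `X` -/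
structure Nor (b : LinearMap.BilinForm (ZMod 2) V) (H X : Subgroup (V ≃ₗ[ZMod 2] V))
    (D : Submodule (ZMod 2) V) (e : V) (N : Subgroup (V ≃ₗ[ZMod 2] V))
    (f g : V ≃ₗ[ZMod 2] V) : Prop extends NorX b H X D e N f g where
  norm : ∀ h ∈ H, ∀ n ∈ N, h * n * h⁻¹ ∈ N

namespace Nor

theorem norm' (S : Nor b H X D e N f g) {h : V ≃ₗ[ZMod 2] V} (hh : h ∈ H) {n : V ≃ₗ[ZMod 2] V}
    (hn : n ∈ N) : h⁻¹ * n * h ∈ N := by
  have := S.norm _ (H.inv_mem hh) n hn
  rwa [inv_inv] at this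

theorem cl' [Finite V] (S : Nor b H X D e N f g) {h : V ≃ₗ[ZMod 2] V} (hh : h ∈ H) :
    Cl N (h e) := by
  intro n hn m hm hne
  have e1 : ∀ n : V ≃ₗ[ZMod 2] V, n (h e) = h ((h⁻¹ * n * h) e) := fun n => (apply_inv h _).symm
  have hne' : (h⁻¹ * n * h) e ≠ (h⁻¹ * m * h) e := by
    intro h1
    apply hne
    rw [e1, e1, h1]
  obtain ⟨k, hk, hk'⟩ := S.cl _ (S.norm' hh hn) _ (S.norm' hh hm) hne'
  refine ⟨h * k * h⁻¹, S.norm h hh k hk, ?_⟩
  rw [e1 n, e1 m, ← map_add, ← hk']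
  show h (k (h⁻¹ (h e))) = h (k e)
  rw [inv_apply]

theorem finrank_eq (S : Nor b H X D e N f g) {h : V ≃ₗ[ZMod 2] V} (hh : h ∈ H) :
    finrank (ZMod 2) (U N (h e)) = finrank (ZMod 2) (U N e) :=
  finrank_U (fun n hn => S.norm h hh n hn) fun n hn => S.norm' hh hn

/-- the stabiliser of the isomorphism type of `U N e` in `H` -/
def typ [Finite V] (S : Nor b H X D e N f g) : Subgroup (V ≃ₗ[ZMod 2] V) :=
  have : Finite (V ≃ₗ[ZMod 2] V) :=
    Finite.of_injective (fun g => (g : V → V)) DFunLike.coe_injective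
  have hmul : ∀ x ∈ {h | h ∈ H ∧ Sim N e (h e)}, ∀ y ∈ {h | h ∈ H ∧ Sim N e (h e)},
      x * y ∈ {h | h ∈ H ∧ Sim N e (h e)} := fun x hx y hy =>
    ⟨H.mul_mem hx.1 hy.1, hx.2.trans (Sim.smul (h := x) (fun n hn => S.norm x hx.1 n hn)
      (fun n hn => S.norm' hx.1 hn) hy.2)⟩
  have hpow : ∀ x ∈ {h | h ∈ H ∧ Sim N e (h e)}, ∀ n : ℕ,
      x ^ n ∈ {h | h ∈ H ∧ Sim N e (h e)} := by
    intro x hx n
    induction n with
    | zero => exact ⟨H.one_mem, Sim.refl e⟩
    | succ n ih => rw [pow_succ]; exact hmul _ ih _ hx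
  { carrier := {h | h ∈ H ∧ Sim N e (h e)}
    one_mem' := ⟨H.one_mem, Sim.refl e⟩
    mul_mem' := fun {x y} hx hy => hmul x hx y hy
    inv_mem' := fun {x} hx => by
      have h1 : x⁻¹ = x ^ (orderOf x - 1) := by
        have h2 : 0 < orderOf x := orderOf_pos x
        have h3 : x ^ (orderOf x - 1) * x = 1 := by
          rw [← pow_succ, Nat.sub_add_cancel h2, pow_orderOf_eq_one]
        exact (eq_inv_of_mul_eq_one_left h3).symm
      rw [h1]
      exact hpow x hx _ }

theorem mem_typ [Finite V] (S : Nor b H X D e N f g) {h : V ≃ₗ[ZMod 2] V} :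
    h ∈ S.typ ↔ h ∈ H ∧ Sim N e (h e) := Iff.rfl

/-- a subgroup `M ≤ H` of odd index and `h ∈ H ∖ M` normalising `M` with `h² ∈ M` is impossible -/
theorem false_of_odd {Γ : Type*} [Group Γ] [Finite Γ] {M H : Subgroup Γ} (hM : M ≤ H)
    (hodd : Odd (M.relIndex H)) {h : Γ} (hh : h ∈ H) (hn : ∀ m ∈ M, h⁻¹ * m * h ∈ M)
    (h2 : h * h ∈ M) (hnot : h ∉ M) : False := by
  have hn' : ∀ m ∈ M, h * m * h⁻¹ ∈ M := by
    intro m hm
    have : h * m * h⁻¹ = (h * h) * (h⁻¹ * m * h) * (h * h)⁻¹ := by group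
    rw [this]
    exact M.mul_mem (M.mul_mem h2 (hn m hm)) (M.inv_mem h2)
  let K : Subgroup Γ :=
    { carrier := {k | k ∈ M ∨ k * h ∈ M}
      one_mem' := Or.inl M.one_mem
      mul_mem' := by
        rintro x y (hx | hx) (hy | hy)
        · exact Or.inl (M.mul_mem hx hy)
        · right
          have : x * y * h = x * (y * h) := by group
          rw [this]; exact M.mul_mem hx hy
        · right
          have : x * y * h = (x * h) * (h⁻¹ * y * h) := by group
          rw [this]; exact M.mul_mem hx (hn y hy)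
        · left
          have : x * y = (x * h) * (h⁻¹ * (y * h) * h) * (h * h)⁻¹ := by group
          rw [this]
          exact M.mul_mem (M.mul_mem hx (hn _ hy)) (M.inv_mem h2)
      inv_mem' := by
        rintro x (hx | hx)
        · exact Or.inl (M.inv_mem hx)
        · right
          have : x⁻¹ * h = (h * (x * h)⁻¹ * h⁻¹) * (h * h) := by group
          rw [this]
          exact M.mul_mem (hn' _ (M.inv_mem hx)) h2 }
  have hKM : M ≤ K := fun m hm => Or.inl hm
  have hhK : h ∈ K := Or.inr h2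
  have hKH : K ≤ H := by
    rintro x (hx | hx)
    · exact hM hx
    · have : x = (x * h) * h⁻¹ := by group
      rw [this]; exact H.mul_mem (hM hx) (H.inv_mem hh)
  have h3 : (M.subgroupOf K).index = 2 := by
    rw [Subgroup.index_eq_two_iff]
    refine ⟨⟨h, hhK⟩, fun x => ?_⟩
    rw [Subgroup.mem_subgroupOf, Subgroup.mem_subgroupOf]
    rcases x.2 with hx | hx
    · right
      refine ⟨hx, fun h4 => hnot ?_⟩
      have h5 : (x : Γ) * h ∈ M := h4
      have : h = (x : Γ)⁻¹ * (x * h) := by group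
      rw [this]; exact M.mul_mem (M.inv_mem hx) h5
    · left
      refine ⟨hx, fun h4 => hnot ?_⟩
      have : h = (x : Γ)⁻¹ * (x * h) := by group
      rw [this]; exact M.mul_mem (M.inv_mem h4) hx
  have h4 : M.relIndex K ∣ M.relIndex H :=
    ⟨K.relIndex H, (Subgroup.relIndex_mul_relIndex M K H hKM hKH).symm⟩
  rw [show M.relIndex K = 2 from h3] at h4
  exact (Nat.not_even_iff_odd.2 hodd) (even_iff_two_dvd.2 h4)

/-- (N5) the span of the `N`-orbit of `e` has dimension at most two -/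
theorem finrank_le [Finite V] (S : Nor b H X D e N f g) {P : Subgroup (V ≃ₗ[ZMod 2] V)}
    (hP : ∀ h ∈ P, h ∈ H ∧ h e = e) (hodd : Odd (P.relIndex H))
    (hopp : ∃ h ∈ H, b e (h e) = 1) : finrank (ZMod 2) (U N e) ≤ 2 := by
  have hfin : Finite (V ≃ₗ[ZMod 2] V) :=
    Finite.of_injective (fun g => (g : V → V)) DFunLike.coe_injective
  by_contra hcon
  have h3 : 3 ≤ finrank (ZMod 2) (U N e) := by omega
  obtain ⟨h, hh, hb1⟩ := hopp
  have hbN : ∀ n ∈ N, ∀ v w, b (n v) (n w) = b v w := fun n hn => S.sys.inv n (S.le hn)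
  have hPM : P ≤ S.typ := fun x hx => S.mem_typ.2 ⟨(hP x hx).1, by
    rw [(hP x hx).2]; exact Sim.refl e⟩
  have hMH : S.typ ≤ H := fun x hx => hx.1
  have hodd' : Odd (S.typ.relIndex H) := by
    have h4 : S.typ.relIndex H ∣ P.relIndex H := Subgroup.relIndex_dvd_of_le_left H hPM
    exact hodd.of_dvd_nat h4
  have hb2 : b (h e) e = 1 := by rw [S.sys.comm]; exact hb1
  refine false_of_odd hMH hodd' hh ?_ ?_ ?_
  · intro x hx
    refine S.mem_typ.2 ⟨H.mul_mem (H.mul_mem (H.inv_mem hh) hx.1) hh, ?_⟩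
    have h4 : Sim N (h e) (x (h e)) := by
      apply Sim.dual hbN (v := e) (v' := x e) (S.cl' (H.mul_mem hx.1 hh)) _ hx.2 hb1
      · show b (x e) (x (h e)) = 1
        rw [S.sys.inv x hx.1]; exact hb1
      · exact S.finrank_eq (H.mul_mem hx.1 hh)
    have h5 := Sim.smul (h := h⁻¹) (fun n hn => S.norm _ (H.inv_mem hh) n hn)
      (fun n hn => S.norm' (H.inv_mem hh) hn) h4
    rw [inv_apply] at h5
    exact h5
  · refine S.mem_typ.2 ⟨H.mul_mem hh hh, ?_⟩
    apply Sim.dual hbN (v := h e) (v' := h e) (S.cl' (H.mul_mem hh hh)) _ (Sim.refl _) hb2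
    · show b (h e) (h (h e)) = 1
      rw [S.sys.inv h hh]; exact hb1
    · rw [S.finrank_eq (H.mul_mem hh hh), S.finrank_eq hh]
  · intro hx
    exact S.not_sim h3 hb1 hx.2

end Nor

/-! ### perfect groups -/

/-- a perfect group acts trivially on a set with at most three elements -/
theorem perm_eq_one {M : Type*} [Group M] (hM : commutator M = ⊤) {O : Type*} [Finite O]
    (hO : Nat.card O ≤ 3) (ρ : M →* Equiv.Perm O) (m : M) : ρ m = 1 := by
  classical
  have hcomm : ∀ {A : Type} [CommGroup A] (σ : M →* A) (m : M), σ m = 1 := by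
    intro A _ σ m
    have h1 : m ∈ commutator M := by rw [hM]; trivial
    exact (Abelianization.commutator_subset_ker σ) h1
  -- reduction to `Fin k`
  obtain ⟨k, ⟨E⟩⟩ := Finite.exists_equiv_fin O
  have hk : k ≤ 3 := by
    rw [Nat.card_congr E, Nat.card_eq_fintype_card, Fintype.card_fin] at hO
    exact hO
  have key : ∀ σ : M →* Equiv.Perm (Fin k), ∀ m, σ m = 1 := by
    intro σ m
    have h1 : ∀ m, Equiv.Perm.sign (σ m) = 1 := fun m =>
      hcomm ((Equiv.Perm.sign : Equiv.Perm (Fin k) →* ℤˣ).comp σ) m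
    have h2 : ∀ x y : Equiv.Perm (Fin k), Equiv.Perm.sign x = 1 → Equiv.Perm.sign y = 1 →
        x * y = y * x := by
      interval_cases k <;> decide
    have h3 : m ∈ commutator M := by rw [hM]; trivial
    have h4 : commutator M ≤ σ.ker := by
      rw [commutator_def, Subgroup.commutator_le]
      intro x _ y _
      rw [MonoidHom.mem_ker, commutatorElement_def, map_mul, map_mul, map_mul, map_inv, map_inv,
        h2 _ _ (h1 x) (h1 y), mul_inv_cancel_right, mul_inv_cancel]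
    exact h4 h3
  have h5 := key ((MulEquiv.toMonoidHom (Equiv.permCongrHom E)).comp ρ) m
  have h6 : Equiv.permCongrHom E (ρ m) = 1 := h5
  exact (MulEquiv.map_eq_one_iff _).1 h6

/-- a perfect group `N ≤ GL(V)` fixes `v` if the orbit of `v` with `0` is closed under addition and spans a
space of dimension at most two -/
theorem fix_of_perfect [Finite V] (hN : ⁅N, N⁆ = N) {v : V} (hv : v ≠ 0)
    (h2 : finrank (ZMod 2) (U N v) ≤ 2) {n : V ≃ₗ[ZMod 2] V} (hn : n ∈ N) : n v = v := by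
  classical
  have hM : commutator N = ⊤ := by
    apply Subgroup.map_injective N.subtype_injective
    rw [Subgroup.map_subtype_commutator, hN, ← MonoidHom.range_eq_map, Subgroup.range_subtype]
  let O := {w : V // w ∈ U N v ∧ w ≠ 0}
  have hne : ∀ (n : V ≃ₗ[ZMod 2] V) (w : V), w ≠ 0 → n w ≠ 0 := by
    intro n w hw h
    apply hw
    have := inv_apply n w
    rw [h, map_zero] at this
    exact this.symm
  let ρ : N →* Equiv.Perm O :=
    { toFun := fun n =>
        { toFun := fun w => ⟨(n : V ≃ₗ[ZMod 2] V) w, U_inv n.2 w.2.1, hne _ _ w.2.2⟩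
          invFun := fun w => ⟨((n⁻¹ : N) : V ≃ₗ[ZMod 2] V) w, U_inv (n⁻¹ : N).2 w.2.1,
            hne _ _ w.2.2⟩
          left_inv := fun w => Subtype.ext (inv_apply _ _)
          right_inv := fun w => Subtype.ext (apply_inv _ _) }
      map_one' := by ext w; rfl
      map_mul' := fun n m => by ext w; rfl }
  have hO : Nat.card O ≤ 3 := by
    have h3 : Nat.card (Option O) ≤ Nat.card (U N v) := by
      let F : Option O → U N v := fun o => o.elim 0 fun w => ⟨w, w.2.1⟩
      apply Nat.card_le_card_of_injective F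
      rintro (_ | w) (_ | w') h
      · rfl
      · exact absurd (congrArg Subtype.val h).symm w'.2.2
      · exact absurd (congrArg Subtype.val h) w.2.2
      · exact congrArg some (Subtype.ext (congrArg (fun x : U N v => (x : V)) h))
    rw [Finite.card_option] at h3
    have h4 : Nat.card (U N v) ≤ 4 := by
      rw [Module.natCard_eq_pow_finrank (K := ZMod 2) (V := U N v), Nat.card_zmod]
      calc 2 ^ finrank (ZMod 2) (U N v) ≤ 2 ^ 2 := Nat.pow_le_pow_right (by norm_num) h2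
        _ = 4 := by norm_num
    omega
  have h5 := perm_eq_one hM hO ρ ⟨n, hn⟩
  have h6 := congrArg (fun σ : Equiv.Perm O => ((σ ⟨v, self_mem v, hv⟩ : O) : V)) h5
  exact h6

namespace Nor

/-- (N5) a perfect normal subgroup centralised by two nontrivial elements of `X` is trivial -/
theorem eq_bot_of_perfect [Finite V] (S : Nor b H X D e N f g)
    {P : Subgroup (V ≃ₗ[ZMod 2] V)} (hP : ∀ h ∈ P, h ∈ H ∧ h e = e) (hodd : Odd (P.relIndex H))
    (hopp : ∃ h ∈ H, b e (h e) = 1) (hN : ⁅N, N⁆ = N)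
    (hspan : Submodule.span (ZMod 2) {v | ∃ h ∈ H, h e = v} = ⊤) : N = ⊥ := by
  have hfix := S.finrank_le hP hodd hopp
  rw [eq_bot_iff]
  intro n hn
  rw [Subgroup.mem_bot]
  ext v
  have hv : v ∈ Submodule.span (ZMod 2) {v | ∃ h ∈ H, h e = v} := by rw [hspan]; trivial
  induction hv using Submodule.span_induction with
  | mem x hx =>
    obtain ⟨h, hh, rfl⟩ := hx
    have h1 := fix_of_perfect hN S.sys.ne hfix (S.norm' hh hn)
    show n (h e) = h e
    have h2 : n (h e) = h ((h⁻¹ * n * h) e) := (apply_inv h _).symm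
    rw [h2, h1]
  | zero => rw [map_zero, map_zero]
  | add x y _ _ hx hy => rw [map_add, map_add, hx, hy]
  | smul c x _ hx => rw [map_smul, map_smul, hx]

end Nor

end Cfsg.Agent.Omega.W5.Parity
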