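import Cfsg.Agent.Omega.KFacts
import Cfsg.Agent.Omega.SQK.Frame
import Cfsg.Agent.Omega.Sec.Final
import Cfsg.Agent.LargeExtra.Nine.ToCent

/-!
# EH3 for the strongly quasithin groups (W5): the list of rows (helper423)

`RowsW5` : the rows of EH3 for the groups of the list `SQK` (known simple groups with `m_p ≤ 2` for all odd `p`).
* `out` : a group of the list `SQK` is `M22` or excluded (`RowEH3`);
* `strQ_quot` : `L / Z(L)` is strongly quasithin, if `H ≥ L` is;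
* `strQ_H` : the image of `C_G(z)` on `Q / ⟨z⟩` is strongly quasithin, if `G` is.
-/

set_option autoImplicit false

namespace Cfsg.Agent.Omega.W5.Rows

open Subgroup Cfsg Cfsg.Agent.Omega.TwoF Cfsg.Agent.Omega.EH3 Cfsg.Agent.Omega.KFacts
open Cfsg.Agent.Omega.SQK.Frame (SQK)
open Cfsg.Agent.Co2Type.Quad Cfsg.Agent.LargeExtra.Base

universe u

/-- The rows of Lie type in characteristic 2: rank at most 2, `PSL₄(2)`, `PSL₅(2)`. -/
structure RowsLie : Prop where
  l2 : ∀ (F : Type) [Field F] [Fintype F] (n : ℕ), 2 ≤ n → Fintype.card F = 2 ^ n →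
    RowEH3.{u} (Matrix.ProjectiveSpecialLinearGroup (Fin 2) F)
  l3 : ∀ (F : Type) [Field F] [Fintype F] (n : ℕ), 1 ≤ n → Fintype.card F = 2 ^ n →
    RowEH3.{u} (Matrix.ProjectiveSpecialLinearGroup (Fin 3) F)
  l4 : ∀ (F : Type) [Field F] [Fintype F], Fintype.card F = 2 →
    RowEH3.{u} (Matrix.ProjectiveSpecialLinearGroup (Fin 4) F)
  l5 : ∀ (F : Type) [Field F] [Fintype F], Fintype.card F = 2 →
    RowEH3.{u} (Matrix.ProjectiveSpecialLinearGroup (Fin 5) F)
  u3 : ∀ (F : Type) [Field F] [Fintype F] (q n : ℕ), 2 ≤ n → q = 2 ^ n → Fintype.card F = q ^ 2 →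
    RowEH3.{u} (PSU 3 F q)
  sp4 : ∀ (F : Type) [Field F] [Fintype F] (n : ℕ), 2 ≤ n → Fintype.card F = 2 ^ n → RowEH3.{u} (PSp 2 F)
  g2 : ∀ (F : Type) [Field F] [Fintype F] (n : ℕ), 2 ≤ n → Fintype.card F = 2 ^ n →
    RowEH3.{u} ↥(Lie.chevG2.group F)
  d4 : ∀ (K : Type) [Field K] [Fintype K] (n : ℕ), 1 ≤ n → Fintype.card K = (2 ^ n) ^ 3 →
    RowEH3.{u} ↥(Lie.twistedD4 K (2 ^ n))
  f4 : Row.{u} @Lie.Iso2F4
  sz : Row.{u} @Lie.IsoSuzuki

/-- The rows of alternating, sporadic groups and groups of Lie type in odd characteristic. -/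
structure RowsOdd : Prop where
  a7 : RowEH3.{u} (alternatingGroup (Fin 7))
  l2 : ∀ (F : Type) [Field F] [Fintype F] (p : ℕ), p.Prime → p ≠ 2 →
    Fintype.card F = p ∨ Fintype.card F = p ^ 2 → 4 ≤ Fintype.card F →
    RowEH3.{u} (Matrix.ProjectiveSpecialLinearGroup (Fin 2) F)
  l3 : ∀ (F : Type) [Field F] [Fintype F], (Fintype.card F).Prime → Fintype.card F ≠ 2 →
    RowEH3.{u} (Matrix.ProjectiveSpecialLinearGroup (Fin 3) F)
  u3 : ∀ (F : Type) [Field F] [Fintype F] (q : ℕ), q.Prime → q ≠ 2 → Fintype.card F = q ^ 2 →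
    RowEH3.{u} (PSU 3 F q)
  tits : Row.{u} @Lie.IsoTits
  m11 : Row.{u} @Spor.IsoM11
  m12 : Row.{u} @Spor.IsoM12
  m23 : Row.{u} @Spor.IsoM23
  m24 : Row.{u} @Spor.IsoM24
  j1 : Row.{u} @Spor.IsoJ1
  j2 : Row.{u} @Spor.IsoJ2
  j4 : Row.{u} @Spor.IsoJ4
  hs : Row.{u} @Spor.IsoHS
  he : Row.{u} @Spor.IsoHe
  ru : Row.{u} @Spor.IsoRu

/-- **The rows of W5.** -/
structure RowsW5 : Prop where
  lie : RowsLie.{u}
  odd : RowsOdd.{u}

theorem two_pow_pos {F : Type} [Field F] [Fintype F] {n : ℕ} (h : Fintype.card F = 2 ^ n) : 1 ≤ n := by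
  by_contra hcon
  have : n = 0 := by omega
  subst this
  have := Fintype.one_lt_card (α := F)
  omega

/-- **A group of the list `SQK` is `M22` or excluded.** -/
theorem out (R : RowsW5.{u}) {K : Type u} [Group K] (h : SQK K) : Spor.IsoM22 K ∨ RowEH3.{u} K := by
  rcases h with ⟨⟨e⟩⟩ | h | h | h | h | h | h | h | h | h | h | h
  · exact Or.inr (R.odd.a7.equiv e)
  · obtain ⟨F, _, _, h4, ⟨n, hn⟩ | ⟨p, hp, hp2, h⟩, ⟨e⟩⟩ := h
    · have : 2 ≤ n := by
        by_contra hcon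
        have : n ≤ 1 := by omega
        have h5 : 2 ^ n ≤ 2 ^ 1 := Nat.pow_le_pow_right (by norm_num) this
        omega
      exact Or.inr ((R.lie.l2 F n this hn).equiv e)
    · exact Or.inr ((R.odd.l2 F p hp hp2 h h4).equiv e)
  · obtain ⟨F, _, _, ⟨n, hn⟩ | ⟨hp, hp2⟩, ⟨e⟩⟩ := h
    · exact Or.inr ((R.lie.l3 F n (two_pow_pos hn) hn).equiv e)
    · exact Or.inr ((R.odd.l3 F hp hp2).equiv e)
  · obtain ⟨F, _, _, h2, ⟨⟨e⟩⟩ | ⟨⟨e⟩⟩⟩ := h
    · exact Or.inr ((R.lie.l4 F h2).equiv e)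
    · exact Or.inr ((R.lie.l5 F h2).equiv e)
  · obtain ⟨F, _, _, q, hF, hq2, ⟨n, hn⟩ | hp, ⟨e⟩⟩ := h
    · have h2 : 2 ≤ n := by
        by_contra hcon
        have : n = 0 ∨ n = 1 := by omega
        rcases this with rfl | rfl
        · rw [pow_zero] at hn
          subst hn
          have := Fintype.one_lt_card (α := F)
          omega
        · exact hq2 (by rw [hn, pow_one])
      exact Or.inr ((R.lie.u3 F q n h2 hn hF).equiv e)
    · exact Or.inr ((R.odd.u3 F q hp hq2 hF).equiv e)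
  · obtain ⟨F, _, _, n, hn, hF, ⟨e⟩⟩ := h
    exact Or.inr ((R.lie.sp4 F n hn hF).equiv e)
  · obtain ⟨F, _, _, n, hn, hF, ⟨e⟩⟩ := h
    exact Or.inr ((R.lie.g2 F n hn hF).equiv e)
  · obtain ⟨F, _, _, n, hn, hF, ⟨e⟩⟩ := h
    exact Or.inr ((R.lie.d4 F n hn hF).equiv e)
  · exact Or.inr (R.lie.f4 K h)
  · exact Or.inr (R.odd.tits K h)
  · exact Or.inr (R.lie.sz K h)
  · rcases h with h | h | h | h | h | h | h | h | h | h | h
    · exact Or.inr (R.odd.m11 K h)
    · exact Or.inr (R.odd.m12 K h)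
    · exact Or.inl h
    · exact Or.inr (R.odd.m23 K h)
    · exact Or.inr (R.odd.m24 K h)
    · exact Or.inr (R.odd.j1 K h)
    · exact Or.inr (R.odd.j2 K h)
    · exact Or.inr (R.odd.j4 K h)
    · exact Or.inr (R.odd.hs K h)
    · exact Or.inr (R.odd.he K h)
    · exact Or.inr (R.odd.ru K h)

/-! ### Strongly quasithin sections -/

/-- `m_p(H) ≤ 2` for all odd primes `p`. -/
abbrev StrQ (H : Type u) [Group H] : Prop := Quasithin.StrQ H

theorem strQ_sub {H : Type u} [Group H] (h : StrQ H) (L : Subgroup H) : StrQ L :=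
  fun p hp hp2 => Quasithin.prankLE_subgroup (h p hp hp2) L

/-- **A nonabelian simple quotient of a subgroup is strongly quasithin.** -/
theorem strQ_quot (hsec : Quasithin.Sec.{u}) {H : Type u} [Group H] [Finite H] (h : StrQ H) (L : Subgroup H)
    (N : Subgroup L) [N.Normal] (hs : IsSimpleGroup (L ⧸ N)) (hna : ¬ IsMulCommutative (L ⧸ N)) :
    StrQ (L ⧸ N) := by
  intro p hp hp2
  have : Fact p.Prime := ⟨hp⟩
  exact hsec p hp2 L N (strQ_sub h L p hp hp2) hs hna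

/-- The quotient by a normal 2-subgroup. -/
theorem strQ_two {C : Type u} [Group C] [Finite C] (h : StrQ C) (Q : Subgroup C) [Q.Normal]
    (hQ : IsPGroup 2 Q) : StrQ (C ⧸ Q) := by
  intro p hp hp2
  have : Fact p.Prime := ⟨hp⟩
  refine Sec.Reduce.prankLE_quotient Q ?_ (h p hp hp2)
  obtain ⟨n, hn⟩ := IsPGroup.iff_card.1 hQ
  rw [hn]
  exact Nat.Coprime.pow_left n ((Nat.coprime_primes Nat.prime_two hp).2 (Ne.symm hp2))

/-- The image of a homomorphism whose kernel is a 2-group. -/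
theorem strQ_map {C D : Type u} [Group C] [Finite C] [Group D] (h : StrQ C) (f : C →* D)
    (hf : IsPGroup 2 f.ker) : StrQ f.range := fun p hp hp2 =>
  Sec.Reduce.prankLE_congr (QuotientGroup.quotientKerEquivRange f) (strQ_two h f.ker hf p hp hp2)

/-- **`H = C_G(z) / Q` is strongly quasithin.** -/
theorem strQ_H {G : Type u} [Group G] [Finite G] {Q A : Subgroup G} {z a : G} (p : Pair Q z A a)
    (h : StrQ G) : StrQ p.H := by
  have h1 : StrQ p.lz.act.range := by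
    refine strQ_map (strQ_sub h _) p.lz.act ?_
    rw [Cfsg.Agent.LargeExtra.Nine.ToCent.ker_act p.lz]
    exact (isPGroup p.lz).comap_of_injective _ (Subgroup.subtype_injective _)
  exact h1

end Cfsg.Agent.Omega.W5.Rows
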