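import Cfsg.Agent.Omega.W5.Odd

/-!
# OMEGA / W5 (3.1): a `2`-group centralising a component `L` costs dimension (helper423)

`B` elementary abelian of order `2 ^ b`, faithful on the odd solvable group `O`, both centralising `L`; every nonzero
`L`-submodule of the faithful `F_2 H`-module `V` has dimension `≥ δ`.  Then `2 b δ ≤ dim V`; and `4 b δ ≤ dim V` if `L`
contains an elementary abelian group of order `9`, `m_3(H) ≤ 2` and the irreducible `L`-submodules have `End = F_2`.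
-/

set_option autoImplicit false

namespace Cfsg.Agent.Omega.W5.Comp

open Module Cfsg.Agent.Omega.W5.Dih Cfsg.Agent.Omega.W5.Odd

variable {H : Type*} [Group H]

theorem commute_of_mem_sup {L B O : Subgroup H} {l x : H} (hl : l ∈ L) (hx : x ∈ B ⊔ O)
    (hB : ∀ l ∈ L, ∀ x ∈ B, Commute l x) (hO : ∀ l ∈ L, ∀ x ∈ O, Commute l x) : Commute l x := by
  have h1 : B ⊔ O ≤ Subgroup.centralizer {l} := by
    refine sup_le ?_ ?_
    · intro b hb
      rw [Subgroup.mem_centralizer_singleton_iff]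
      exact (hB l hl b hb).symm
    · intro b hb
      rw [Subgroup.mem_centralizer_singleton_iff]
      exact (hO l hl b hb).symm
  have := h1 hx
  rw [Subgroup.mem_centralizer_singleton_iff] at this
  exact this.symm

/-- an element of order `3` inverted by something commuting with `L`, commuting with `L`, together with `3^2 ≤ L`
gives `3^3` -/
theorem ne_three [Finite H] (h3 : Cfsg.PRankLE 3 2 H) {L E : Subgroup H} (hEL : E ≤ L) (hEc : IsMulCommutative E)
    (hE3 : ∀ a ∈ E, a ^ 3 = 1) (hE : Nat.card E = 9) {y b : H} (hy : y ^ 3 = 1) (hy1 : y ≠ 1)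
    (hb : b * y * b⁻¹ = y⁻¹) (hLy : ∀ l ∈ L, Commute l y) (hLb : ∀ l ∈ L, Commute l b) : False := by
  classical
  have hyE : y ∉ E := by
    intro h
    have h1 : Commute y b := hLb y (hEL h)
    have h2 : b * y * b⁻¹ = y := by rw [← h1.eq]; group
    rw [hb] at h2
    have h3 : y * y = 1 := by rw [← mul_inv_cancel y, h2]
    have h4 : y = 1 := by
      have : y ^ 3 = y * y * y := by rw [pow_succ, pow_two]
      rw [hy, h3, one_mul] at this
      exact this.symm
    exact hy1 h4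
  have hEcomm : ∀ a ∈ E, ∀ b ∈ E, a * b = b * a := fun a ha b hb =>
    congrArg Subtype.val (hEc.is_comm.comm (⟨a, ha⟩ : E) ⟨b, hb⟩)
  set T : Subgroup H := Subgroup.closure (insert y (E : Set H)) with hT
  have hcomm : ∀ a ∈ insert y (E : Set H), ∀ b ∈ insert y (E : Set H), a * b = b * a := by
    rintro a (rfl | ha) b (rfl | hb)
    · rfl
    · exact (hLy b (hEL hb)).symm
    · exact hLy a (hEL ha)
    · exact hEcomm a ha b hb
  have hTc : IsMulCommutative T := Subgroup.isMulCommutative_closure hcomm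
  have hT3 : ∀ a ∈ T, a ^ 3 = 1 := by
    intro a ha
    induction ha using Subgroup.closure_induction with
    | mem a ha =>
      rcases ha with rfl | ha
      · exact hy
      · exact hE3 a ha
    | one => simp
    | mul a b ha hb iha ihb =>
      have hab : Commute a b := congrArg Subtype.val (hTc.is_comm.comm (⟨a, ha⟩ : T) ⟨b, hb⟩)
      rw [hab.mul_pow, iha, ihb, one_mul]
    | inv a ha iha => rw [inv_pow, iha, inv_one]
  have hcard := h3 T hTc hT3
  have hlt : E < T := by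
    refine lt_of_le_of_ne (fun x hx => Subgroup.subset_closure (Set.mem_insert_of_mem _ hx)) ?_
    intro h
    apply hyE
    rw [h]
    exact Subgroup.subset_closure (Set.mem_insert _ _)
  have hdvd : Nat.card E ∣ Nat.card T := Subgroup.card_dvd_of_le hlt.le
  rw [hE] at hdvd
  have hT9 : Nat.card T = 9 := by
    have h1 : 0 < Nat.card T := Nat.card_pos
    have h2 := Nat.le_of_dvd h1 hdvd
    norm_num at hcard
    omega
  have := Subgroup.eq_of_le_of_card_ge hlt.le (by rw [hT9, hE])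
  exact hlt.ne this

variable {V : Type*} [AddCommGroup V] [Module (ZMod 2) V] [FiniteDimensional (ZMod 2) V]

theorem two_mul_le [Finite H] (ρ : H →* (V ≃ₗ[ZMod 2] V)) (hρ : Function.Injective ρ) (L O B : Subgroup H)
    (hOs : Group.IsSolvable ↥O) (hOodd : Odd (Nat.card ↥O)) (hB : Cfsg.IsElementaryAbelian 2 B) (b : ℕ)
    (hBc : Nat.card ↥B = 2 ^ b) (hBO : B ≤ Subgroup.normalizer (O : Set H))
    (hfaith : B ⊓ Subgroup.centralizer (O : Set H) = ⊥)
    (hLB : ∀ l ∈ L, ∀ x ∈ B, Commute l x) (hLO : ∀ l ∈ L, ∀ x ∈ O, Commute l x) (δ : ℕ)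
    (hδ : ∀ U : Submodule (ZMod 2) V, U ≠ ⊥ → (∀ l ∈ L, Inv (ρ l) U) → δ ≤ finrank (ZMod 2) U) :
    2 * (b * δ) ≤ finrank (ZMod 2) V := by
  classical
  have : Fact (Nat.Prime 2) := ⟨Nat.prime_two⟩
  rcases Nat.eq_zero_or_pos b with rfl | hb
  · simp
  obtain ⟨P, hPb, hPy⟩ := exists_pairs O B hOs hOodd hB b hb hBc hBO hfaith
  set D := P.data ρ (L : Set H) (fun l hl i => commute_of_mem_sup hl (hPb i) hLB hLO)
    (fun l hl i => commute_of_mem_sup hl (hPy i) hLB hLO) with hD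
  have hδ' : ∀ U : Submodule (ZMod 2) V, U ≠ ⊥ → (∀ g ∈ D.Λ, Inv g U) → δ ≤ finrank (ZMod 2) U := by
    intro U hU h
    exact hδ U hU fun l hl => h _ ⟨l, hl, rfl⟩
  have h1 := D.core (fun _ => δ) (fun i U hU hΛ hb hy hf => D.two_le hδ' hU hΛ hb hy hf)
      (Fintype.card (Fin b)) Finset.univ le_rfl ⊤ (by intro g hg u _; trivial)
      (by intro i _; exact ⟨fun u _ => trivial, fun u _ => trivial⟩)
      (by
        intro i _
        by_contra hcon
        push Not at hcon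
        apply P.ne i
        apply hρ
        rw [map_one]
        ext u
        exact hcon u trivial)
  rw [finrank_top] at h1
  simpa using h1

theorem pow_fix (g : V ≃ₗ[ZMod 2] V) {u : V} (hg : g u = u) (k : ℕ) : (g ^ k) u = u := by
  induction k with
  | zero => simp
  | succ k ih => rw [pow_succ]; change (g ^ k) (g u) = u; rw [hg, ih]

theorem inv_fix' (g : V ≃ₗ[ZMod 2] V) {u : V} (hg : g u = u) : g⁻¹ u = u := by
  have : g⁻¹ (g u) = u := by change (g⁻¹ * g) u = u; rw [inv_mul_cancel]; rfl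
  rwa [hg] at this

theorem zpow_fix (g : V ≃ₗ[ZMod 2] V) {u : V} (hg : g u = u) (k : ℤ) : (g ^ k) u = u := by
  obtain ⟨m, rfl | rfl⟩ := k.eq_nat_or_neg
  · rw [zpow_natCast]; exact pow_fix g hg m
  · rw [zpow_neg, zpow_natCast]; exact inv_fix' _ (pow_fix g hg m)

/-- an element of order prime to `3` whose cube fixes `u` fixes `u` -/
theorem fix_of_cube (g : V ≃ₗ[ZMod 2] V) {p : ℕ} (hp : p.Coprime 3) (hg : g ^ p = 1) {u : V}
    (h : g (g (g u)) = u) : g u = u := by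
  have e3 : (g ^ 3) u = u := by rw [pow_succ, pow_two]; exact h
  have ep : (g ^ p) u = u := by rw [hg]; rfl
  have hbez := Nat.gcd_eq_gcd_ab p 3
  rw [Nat.coprime_iff_gcd_eq_one.1 hp] at hbez
  have : g = (g ^ p) ^ (Nat.gcdA p 3) * (g ^ 3) ^ (Nat.gcdB p 3) := by
    rw [← zpow_natCast, ← zpow_natCast, ← zpow_mul, ← zpow_mul, ← zpow_add]
    have h9 : ((p : ℕ) : ℤ) * Nat.gcdA p 3 + ((3 : ℕ) : ℤ) * Nat.gcdB p 3 = 1 := by
      exact_mod_cast hbez.symm
    rw [h9, zpow_one]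
  rw [this]
  change ((g ^ p) ^ (Nat.gcdA p 3)) (((g ^ 3) ^ (Nat.gcdB p 3)) u) = u
  rw [zpow_fix _ e3, zpow_fix _ ep]

theorem four_mul_le [Finite H] (ρ : H →* (V ≃ₗ[ZMod 2] V)) (hρ : Function.Injective ρ) (L O B : Subgroup H)
    (hOs : Group.IsSolvable ↥O) (hOodd : Odd (Nat.card ↥O)) (hB : Cfsg.IsElementaryAbelian 2 B) (b : ℕ)
    (hBc : Nat.card ↥B = 2 ^ b) (hBO : B ≤ Subgroup.normalizer (O : Set H))
    (hfaith : B ⊓ Subgroup.centralizer (O : Set H) = ⊥)
    (hLB : ∀ l ∈ L, ∀ x ∈ B, Commute l x) (hLO : ∀ l ∈ L, ∀ x ∈ O, Commute l x) (δ : ℕ)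
    (hδ : ∀ U : Submodule (ZMod 2) V, U ≠ ⊥ → (∀ l ∈ L, Inv (ρ l) U) → δ ≤ finrank (ZMod 2) U)
    (h3 : Cfsg.PRankLE 3 2 H) {E : Subgroup H} (hEL : E ≤ L) (hEc : IsMulCommutative E)
    (hE3 : ∀ a ∈ E, a ^ 3 = 1) (hE : Nat.card E = 9)
    (hEnd : ∀ M : Submodule (ZMod 2) V, M ≠ ⊥ → (∀ l ∈ L, Inv (ρ l) M) →
      (∀ N : Submodule (ZMod 2) V, N ≤ M → (∀ l ∈ L, Inv (ρ l) N) → N = ⊥ ∨ N = M) →
      ∀ f : V →ₗ[ZMod 2] V, (∀ m ∈ M, f m ∈ M) → (∀ l ∈ L, ∀ m, f (ρ l m) = ρ l (f m)) →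
      (∀ m ∈ M, f m = 0) ∨ (∀ m ∈ M, f m = m)) :
    4 * (b * δ) ≤ finrank (ZMod 2) V := by
  classical
  have : Fact (Nat.Prime 2) := ⟨Nat.prime_two⟩
  rcases Nat.eq_zero_or_pos b with rfl | hb
  · simp
  obtain ⟨P, hPb, hPy⟩ := exists_pairs O B hOs hOodd hB b hb hBc hBO hfaith
  have hp3 : ∀ i, P.p i ≠ 3 := by
    intro i hi
    exact ne_three h3 hEL hEc hE3 hE (by have := P.pow i; rwa [hi] at this) (P.ne i) (P.inv i)
      (fun l hl => commute_of_mem_sup hl (hPy i) hLB hLO) (fun l hl => commute_of_mem_sup hl (hPb i) hLB hLO)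
  set D := P.data ρ (L : Set H) (fun l hl i => commute_of_mem_sup hl (hPb i) hLB hLO)
    (fun l hl i => commute_of_mem_sup hl (hPy i) hLB hLO) with hD
  have hδ' : ∀ U : Submodule (ZMod 2) V, U ≠ ⊥ → (∀ g ∈ D.Λ, Inv g U) → δ ≤ finrank (ZMod 2) U := by
    intro U hU h
    exact hδ U hU fun l hl => h _ ⟨l, hl, rfl⟩
  have hEnd' : ∀ M : Submodule (ZMod 2) V, M ≠ ⊥ → (∀ g ∈ D.Λ, Inv g M) →
      (∀ N : Submodule (ZMod 2) V, N ≤ M → (∀ g ∈ D.Λ, Inv g N) → N = ⊥ ∨ N = M) →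
      ∀ f : V →ₗ[ZMod 2] V, (∀ m ∈ M, f m ∈ M) → (∀ g ∈ D.Λ, ∀ m, f (g m) = g (f m)) →
      (∀ m ∈ M, f m = 0) ∨ (∀ m ∈ M, f m = m) := by
    intro M hM hMΛ hmin f hf hfc
    refine hEnd M hM (fun l hl => hMΛ _ ⟨l, hl, rfl⟩) (fun N hN hNL => hmin N hN ?_) f hf
      (fun l hl m => hfc _ ⟨l, hl, rfl⟩ m)
    rintro _ ⟨l, hl, rfl⟩
    exact hNL l hl
  have h1 := D.core (fun _ => 2 * δ) (fun i U hU hΛ hb hy hf => by
      refine D.four_le hδ' hEnd' hU hΛ hb hy hf ?_
      intro u hu h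
      apply hf u hu
      refine fix_of_cube (D.y i) (p := P.p i) ?_ (D.pow i) h
      rw [Nat.coprime_primes (P.prime i) Nat.prime_three]
      exact hp3 i)
      (Fintype.card (Fin b)) Finset.univ le_rfl ⊤ (by intro g hg u _; trivial)
      (by intro i _; exact ⟨fun u _ => trivial, fun u _ => trivial⟩)
      (by
        intro i _
        by_contra hcon
        push Not at hcon
        apply P.ne i
        apply hρ
        rw [map_one]
        ext u
        exact hcon u trivial)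
  rw [finrank_top] at h1
  simp only [Finset.sum_const, Finset.card_univ, Fintype.card_fin, smul_eq_mul] at h1
  linarith

end Cfsg.Agent.Omega.W5.Comp
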