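import Mathlib

/-!
# OMEGA / W5 (THEOREM W5 of helper969, #11274): dimension bounds for commuting dihedral groups (helper423)

`b i` an involution inverting `y i` of odd order, different indices commute, everything commutes with `Λ`.  If every
nonzero `⟨Λ, b i, y i⟩`-submodule on which `y i` is fixed point free has dimension `≥ 2 w i`, then a module on which
all `y i`, `i ∈ s`, are nontrivial has dimension `≥ 2 ∑ w i`.
-/

set_option autoImplicit false

namespace Cfsg.Agent.Omega.W5.Dih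

open Module

variable {F V ι : Type*} [Field F] [AddCommGroup V] [Module F V]

/-- `g` leaves the submodule `U` invariant -/
def Inv (g : V ≃ₗ[F] V) (U : Submodule F V) : Prop := ∀ u ∈ U, g u ∈ U

/-- the commutator submodule `[U, y]` -/
def comm (y : V ≃ₗ[F] V) (U : Submodule F V) : Submodule F V := U.map ((y : V →ₗ[F] V) - LinearMap.id)

/-- the fixed points of `y` in `U` -/
def fix (y : V ≃ₗ[F] V) (U : Submodule F V) : Submodule F V :=
  U ⊓ LinearMap.ker ((y : V →ₗ[F] V) - LinearMap.id)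

theorem mem_comm {y : V ≃ₗ[F] V} {U : Submodule F V} {w : V} : w ∈ comm y U ↔ ∃ u ∈ U, y u - u = w := by
  simp [comm, Submodule.mem_map]

theorem mem_fix {y : V ≃ₗ[F] V} {U : Submodule F V} {w : V} : w ∈ fix y U ↔ w ∈ U ∧ y w = w := by
  simp [fix, sub_eq_zero]

theorem inv_inv [FiniteDimensional F V] {g : V ≃ₗ[F] V} {U : Submodule F V} (h : Inv g U) : Inv g⁻¹ U := by
  have h1 : U.map (g : V →ₗ[F] V) ≤ U := by
    rintro _ ⟨u, hu, rfl⟩
    exact h u hu
  have h2 : U.map (g : V →ₗ[F] V) = U := by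
    apply Submodule.eq_of_le_of_finrank_eq h1
    exact LinearEquiv.finrank_map_eq g U
  intro u hu
  rw [← h2] at hu
  obtain ⟨v, hv, rfl⟩ := hu
  have : g⁻¹ ((g : V →ₗ[F] V) v) = v := by
    change (g⁻¹ * g) v = v
    rw [inv_mul_cancel]
    rfl
  rw [this]
  exact hv

theorem comm_le {y : V ≃ₗ[F] V} {U : Submodule F V} (h : Inv y U) : comm y U ≤ U := by
  intro w hw
  obtain ⟨u, hu, rfl⟩ := mem_comm.1 hw
  exact U.sub_mem (h u hu) hu

theorem apply_commute {g h : V ≃ₗ[F] V} (hc : Commute g h) (v : V) : g (h v) = h (g v) := by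
  change (g * h) v = (h * g) v
  rw [hc.eq]

theorem inv_comm {y g : V ≃ₗ[F] V} {U : Submodule F V} (hg : Inv g U) (hc : Commute g y) : Inv g (comm y U) := by
  intro w hw
  obtain ⟨u, hu, rfl⟩ := mem_comm.1 hw
  refine mem_comm.2 ⟨g u, hg u hu, ?_⟩
  rw [map_sub, apply_commute hc]

theorem inv_fix {y g : V ≃ₗ[F] V} {U : Submodule F V} (hg : Inv g U) (hc : Commute g y) : Inv g (fix y U) := by
  intro w hw
  obtain ⟨hw, h1⟩ := mem_fix.1 hw
  refine mem_fix.2 ⟨hg w hw, ?_⟩
  rw [← apply_commute hc, h1]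

theorem finrank_fix_add_comm [FiniteDimensional F V] (y : V ≃ₗ[F] V) (U : Submodule F V) :
    finrank F (fix y U) + finrank F (comm y U) = finrank F U := by
  have h := LinearMap.finrank_range_add_finrank_ker
    (((y : V →ₗ[F] V) - LinearMap.id).comp U.subtype)
  have h1 : LinearMap.range (((y : V →ₗ[F] V) - LinearMap.id).comp U.subtype) = comm y U := by
    rw [LinearMap.range_comp, Submodule.range_subtype, comm]
  have h2 : finrank F (LinearMap.ker (((y : V →ₗ[F] V) - LinearMap.id).comp U.subtype)) = finrank F (fix y U) := by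
    have h3 : (LinearMap.ker (((y : V →ₗ[F] V) - LinearMap.id).comp U.subtype)).map U.subtype = fix y U := by
      rw [LinearMap.ker_comp, Submodule.map_comap_subtype, fix]
    rw [← h3]
    exact (LinearEquiv.finrank_eq (Submodule.equivMapOfInjective _ U.injective_subtype _))
  rw [h1, h2] at h
  omega

theorem pow_apply {y : V ≃ₗ[F] V} {u w : V} (h1 : y u = u + w) (h2 : y w = w) (k : ℕ) :
    (y ^ k) u = u + k • w := by
  induction k with
  | zero => simp
  | succ k ih =>
    rw [pow_succ']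
    change y ((y ^ k) u) = _
    rw [ih, map_add, map_nsmul, h1, h2, succ_nsmul]
    abel

theorem fpf_comm [CharP F 2] {y : V ≃ₗ[F] V} {n : ℕ} (hn : Odd n) (hy : y ^ n = 1) {U : Submodule F V} {w : V}
    (hw : w ∈ comm y U) (h : y w = w) : w = 0 := by
  obtain ⟨u, hu, rfl⟩ := mem_comm.1 hw
  have h1 := pow_apply (y := y) (u := u) (w := y u - u) (by abel) h n
  rw [hy] at h1
  have h2 : (n : F) • (y u - u) = 0 := by
    have h3 : n • (y u - u) = 0 := by
      have : u = u + n • (y u - u) := h1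
      simpa using this.symm
    rw [← h3]
    exact Nat.cast_smul_eq_nsmul F n _
  have h4 : (n : F) = 1 := by
    obtain ⟨k, rfl⟩ := hn
    have : (2 : F) = 0 := CharTwo.two_eq_zero
    push_cast
    rw [this]; simp
  rw [h4, one_smul] at h2
  exact h2

theorem fixed_of_sq {y : V ≃ₗ[F] V} {n : ℕ} (hn : Odd n) (hy : y ^ n = 1) {u : V} (h : y (y u) = u) : y u = u := by
  obtain ⟨k, rfl⟩ := hn
  have h1 : ∀ m : ℕ, ((y ^ 2) ^ m) u = u := by
    intro m
    induction m with
    | zero => simp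
    | succ m ih =>
      rw [pow_succ]
      change ((y ^ 2) ^ m) ((y ^ 2) u) = u
      have : (y ^ 2) u = u := by
        rw [pow_two]; exact h
      rw [this, ih]
  have h2 : (y ^ (2 * k + 1)) u = u := by rw [hy]; rfl
  rw [pow_succ', pow_mul] at h2
  have h3 : (y * (y ^ 2) ^ k) u = y (((y ^ 2) ^ k) u) := rfl
  rw [h3, h1] at h2
  exact h2

/-- the data: commuting dihedral groups, commuting with `Λ` -/
structure Data (F V ι : Type*) [Field F] [AddCommGroup V] [Module F V] where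
  b : ι → V ≃ₗ[F] V
  y : ι → V ≃ₗ[F] V
  Λ : Set (V ≃ₗ[F] V)
  n : ι → ℕ
  odd : ∀ i, Odd (n i)
  pow : ∀ i, y i ^ n i = 1
  sq : ∀ i, b i * b i = 1
  inv : ∀ i, b i * y i * (b i)⁻¹ = (y i)⁻¹
  bb : ∀ i j, i ≠ j → Commute (b i) (b j)
  by' : ∀ i j, i ≠ j → Commute (b i) (y j)
  yy : ∀ i j, i ≠ j → Commute (y i) (y j)
  lb : ∀ g ∈ Λ, ∀ i, Commute g (b i)
  ly : ∀ g ∈ Λ, ∀ i, Commute g (y i)

namespace Data

variable (D : Data F V ι)

theorem b_y (i : ι) (u : V) : D.b i (D.y i u) = (D.y i)⁻¹ (D.b i u) := by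
  have h : D.b i * D.y i = (D.y i)⁻¹ * D.b i := by
    rw [← D.inv i]; group
  change (D.b i * D.y i) u = _
  rw [h]; rfl

theorem b_b (i : ι) (u : V) : D.b i (D.b i u) = u := by
  change (D.b i * D.b i) u = _
  rw [D.sq i]; rfl

theorem yinv_y (i : ι) (u : V) : (D.y i)⁻¹ (D.y i u) = u := by
  change ((D.y i)⁻¹ * D.y i) u = _
  rw [inv_mul_cancel]; rfl

theorem y_yinv (i : ι) (u : V) : D.y i ((D.y i)⁻¹ u) = u := by
  change (D.y i * (D.y i)⁻¹) u = _
  rw [mul_inv_cancel]; rfl

theorem inv_b_comm [FiniteDimensional F V] {i : ι} {U : Submodule F V} (hb : Inv (D.b i) U) (hy : Inv (D.y i) U) :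
    Inv (D.b i) (comm (D.y i) U) := by
  intro w hw
  obtain ⟨u, hu, rfl⟩ := mem_comm.1 hw
  refine mem_comm.2 ⟨-((D.y i)⁻¹ (D.b i u)), U.neg_mem (inv_inv hy _ (hb u hu)), ?_⟩
  rw [map_neg, D.y_yinv, map_sub, D.b_y]
  abel

/-- a `b i`-invariant nonzero submodule contains a nonzero fixed point of `b i` -/
theorem exists_fix [CharP F 2] {i : ι} {U : Submodule F V} (hb : Inv (D.b i) U) {u : V} (hu : u ∈ U) (h0 : u ≠ 0) :
    ∃ v ∈ U, v ≠ 0 ∧ D.b i v = v := by
  by_cases h : D.b i u = u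
  · exact ⟨u, hu, h0, h⟩
  · refine ⟨D.b i u - u, U.sub_mem (hb u hu) hu, sub_ne_zero.2 h, ?_⟩
    rw [map_sub, D.b_b]
    have h2 : ∀ x : V, -x = x := fun x => by
      have : (2 : F) • x = 0 := by rw [CharTwo.two_eq_zero, zero_smul]
      rw [two_smul] at this
      exact (eq_neg_of_add_eq_zero_left this).symm
    rw [sub_eq_add_neg, h2, sub_eq_add_neg, h2]
    abel

theorem core [CharP F 2] [FiniteDimensional F V] (w : ι → ℕ)
    (hw : ∀ i, ∀ U : Submodule F V, U ≠ ⊥ → (∀ g ∈ D.Λ, Inv g U) → Inv (D.b i) U → Inv (D.y i) U →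
      (∀ u ∈ U, D.y i u = u → u = 0) → 2 * w i ≤ finrank F U) :
    ∀ (k : ℕ) (s : Finset ι), s.card ≤ k → ∀ U : Submodule F V, (∀ g ∈ D.Λ, Inv g U) →
      (∀ i ∈ s, Inv (D.b i) U ∧ Inv (D.y i) U) → (∀ i ∈ s, ∃ u ∈ U, D.y i u ≠ u) →
      2 * ∑ i ∈ s, w i ≤ finrank F U := by
  classical
  intro k
  induction k with
  | zero =>
    intro s hs U _ _ _
    have : s = ∅ := Finset.card_eq_zero.1 (by omega)
    subst this
    simp
  | succ k ih =>
    intro s hs U hΛ hinv hne
    rcases s.eq_empty_or_nonempty with rfl | hsne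
    · simp
    obtain ⟨i, hi, hmin⟩ := Finset.exists_min_image s w hsne
    obtain ⟨hib, hiy⟩ := hinv i hi
    set C := fix (D.y i) U with hC
    set W := comm (D.y i) U with hW
    set t := s.erase i with ht
    have htc : t.card ≤ k := by
      have h0 : t.card = s.card - 1 := Finset.card_erase_of_mem hi
      have h1 := hsne.card_pos
      omega
    set I := t.filter (fun j => ∃ u ∈ C, D.y j u ≠ u) with hI
    set J := t.filter (fun j => ¬ ∃ u ∈ C, D.y j u ≠ u) with hJ
    have hsum : ∑ j ∈ s, w j = w i + (∑ j ∈ I, w j + ∑ j ∈ J, w j) := by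
      rw [← Finset.add_sum_erase s w hi, ← Finset.sum_filter_add_sum_filter_not t (fun j => ∃ u ∈ C, D.y j u ≠ u)]
    have htne : ∀ j ∈ t, j ∈ s ∧ j ≠ i := fun j hj => ⟨Finset.mem_of_mem_erase hj, Finset.ne_of_mem_erase hj⟩
    have hfr : finrank F C + finrank F W = finrank F U := finrank_fix_add_comm (D.y i) U
    have hWU : W ≤ U := comm_le hiy
    -- the part centralised by y i
    have h1 : 2 * ∑ j ∈ I, w j ≤ finrank F C := by
      apply ih I ((Finset.card_filter_le _ _).trans htc) C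
      · intro g hg
        exact inv_fix (hΛ g hg) (D.ly g hg i)
      · intro j hj
        obtain ⟨hjs, hji⟩ := htne j (Finset.mem_of_mem_filter j hj)
        exact ⟨inv_fix (hinv j hjs).1 (D.by' j i hji), inv_fix (hinv j hjs).2 (D.yy j i hji)⟩
      · intro j hj
        exact (Finset.mem_filter.1 hj).2
    have hWne : W ≠ ⊥ := by
      obtain ⟨u, hu, hu1⟩ := hne i hi
      intro h
      have : D.y i u - u ∈ W := mem_comm.2 ⟨u, hu, rfl⟩
      rw [h, Submodule.mem_bot, sub_eq_zero] at this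
      exact hu1 this
    have hWfpf : ∀ u ∈ W, D.y i u = u → u = 0 := fun u hu h => fpf_comm (D.odd i) (D.pow i) hu h
    have hWb : Inv (D.b i) W := D.inv_b_comm hib hiy
    have hWy : Inv (D.y i) W := inv_comm hiy (Commute.refl _)
    have hWΛ : ∀ g ∈ D.Λ, Inv g W := fun g hg => inv_comm (hΛ g hg) (D.ly g hg i)
    have h2 : 2 * w i + 2 * ∑ j ∈ J, w j ≤ finrank F W := by
      rcases J.eq_empty_or_nonempty with hJe | ⟨j0, hj0⟩
      · rw [hJe]
        simpa using hw i W hWne hWΛ hWb hWy hWfpf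
      · set U' := fix (D.b i) W with hU'
        have h3 : 2 * ∑ j ∈ J, w j ≤ finrank F U' := by
          apply ih J ((Finset.card_filter_le _ _).trans htc) U'
          · intro g hg
            exact inv_fix (hWΛ g hg) (D.lb g hg i)
          · intro j hj
            obtain ⟨hjs, hji⟩ := htne j (Finset.mem_of_mem_filter j hj)
            exact ⟨inv_fix (inv_comm (hinv j hjs).1 (D.by' j i hji)) (D.bb j i hji),
              inv_fix (inv_comm (hinv j hjs).2 (D.yy j i hji)) (D.by' i j hji.symm).symm⟩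
          · intro j hj
            obtain ⟨hjs, hji⟩ := htne j (Finset.mem_of_mem_filter j hj)
            have hjC := (Finset.mem_filter.1 hj).2
            by_contra hcon
            push Not at hcon hjC
            -- y j is nontrivial on W
            obtain ⟨u, hu, hu1⟩ := hne j hjs
            have hCU : C ≤ U := inf_le_left
            have hCWU : C ⊔ W ≤ U := sup_le hCU hWU
            have hCW : C ⊔ W = U := by
              refine Submodule.eq_of_le_of_finrank_eq hCWU ?_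
              have hd : C ⊓ W = ⊥ := by
                rw [eq_bot_iff]
                intro x hx
                exact hWfpf x hx.2 (mem_fix.1 hx.1).2
              have h4 := Submodule.finrank_sup_add_finrank_inf_eq C W
              rw [hd, finrank_bot] at h4
              omega
            have hjy := (hinv j hjs).2
            have hex : ∃ v ∈ W, D.y j v ≠ v := by
              by_contra hc
              push Not at hc
              rw [← hCW] at hu
              obtain ⟨c, hc1, v, hv, rfl⟩ := Submodule.mem_sup.1 hu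
              exact hu1 (by rw [map_add, hjC c hc1, hc v hv])
            obtain ⟨v, hv, hv1⟩ := hex
            have hWyj : Inv (D.y j) W := inv_comm hjy (D.yy j i hji)
            set X := comm (D.y j) W with hX
            have hXW : X ≤ W := comm_le hWyj
            have hXb : Inv (D.b i) X := inv_comm hWb (D.by' i j hji.symm)
            have hx0 : D.y j v - v ∈ X := mem_comm.2 ⟨v, hv, rfl⟩
            obtain ⟨x, hxX, hx1, hx2⟩ := D.exists_fix (i := i) hXb hx0 (sub_ne_zero.2 hv1)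
            have hx3 : x ∈ U' := mem_fix.2 ⟨hXW hxX, hx2⟩
            exact hx1 (fpf_comm (D.odd j) (D.pow j) hxX (hcon x hx3))
        have h4 : 2 * finrank F U' ≤ finrank F W := by
          have hd : U' ⊓ U'.map (D.y i : V →ₗ[F] V) = ⊥ := by
            rw [eq_bot_iff]
            rintro x ⟨hx1, hx2⟩
            obtain ⟨v, hv, rfl⟩ := hx2
            obtain ⟨hv1, hv2⟩ := mem_fix.1 hv
            obtain ⟨hx3, hx4⟩ := mem_fix.1 hx1
            change D.b i (D.y i v) = D.y i v at hx4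
            rw [D.b_y, hv2] at hx4
            have h5 : D.y i (D.y i v) = v := by
              rw [← hx4, D.y_yinv]
            have h6 := fixed_of_sq (D.odd i) (D.pow i) h5
            have h7 := hWfpf v hv1 h6
            subst h7
            simp
          have h8 := Submodule.finrank_sup_add_finrank_inf_eq U' (U'.map (D.y i : V →ₗ[F] V))
          rw [hd, finrank_bot] at h8
          have h9 : finrank F (U'.map (D.y i : V →ₗ[F] V)) = finrank F U' := LinearEquiv.finrank_map_eq (D.y i) U'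
          have h10 : U' ⊔ U'.map (D.y i : V →ₗ[F] V) ≤ W := by
            refine sup_le inf_le_left ?_
            rintro _ ⟨v, hv, rfl⟩
            exact hWy v (mem_fix.1 hv).1
          have h11 := Submodule.finrank_mono h10
          omega
        have h5 : w i ≤ ∑ j ∈ J, w j := by
          refine (hmin j0 (htne j0 (Finset.mem_of_mem_filter j0 hj0)).1).trans ?_
          exact Finset.single_le_sum (f := w) (fun _ _ => Nat.zero_le _) hj0
        omega
    rw [hsum]
    omega

/-- `U = C_U(b) ⊕ y C_U(b)` contains two copies of `C_U(b)` -/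
theorem half_le [FiniteDimensional F V] {i : ι} {U : Submodule F V} (hy : Inv (D.y i) U)
    (hf : ∀ u ∈ U, D.y i u = u → u = 0) : 2 * finrank F (fix (D.b i) U) ≤ finrank F U := by
  set U' := fix (D.b i) U with hU'
  have hd : U' ⊓ U'.map (D.y i : V →ₗ[F] V) = ⊥ := by
    rw [eq_bot_iff]
    rintro x ⟨hx1, hx2⟩
    obtain ⟨v, hv, rfl⟩ := hx2
    obtain ⟨hv1, hv2⟩ := mem_fix.1 hv
    obtain ⟨hx3, hx4⟩ := mem_fix.1 hx1
    change D.b i (D.y i v) = D.y i v at hx4
    rw [D.b_y, hv2] at hx4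
    have h5 : D.y i (D.y i v) = v := by
      rw [← hx4, D.y_yinv]
    have h6 := fixed_of_sq (D.odd i) (D.pow i) h5
    have h7 := hf v hv1 h6
    subst h7
    simp
  have h8 := Submodule.finrank_sup_add_finrank_inf_eq U' (U'.map (D.y i : V →ₗ[F] V))
  rw [hd, finrank_bot] at h8
  have h9 : finrank F (U'.map (D.y i : V →ₗ[F] V)) = finrank F U' := LinearEquiv.finrank_map_eq (D.y i) U'
  have h10 : U' ⊔ U'.map (D.y i : V →ₗ[F] V) ≤ U := by
    refine sup_le inf_le_left ?_
    rintro _ ⟨v, hv, rfl⟩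
    exact hy v (mem_fix.1 hv).1
  have h11 := Submodule.finrank_mono h10
  omega

theorem fix_ne_bot [CharP F 2] {i : ι} {U : Submodule F V} (hU : U ≠ ⊥) (hb : Inv (D.b i) U) :
    fix (D.b i) U ≠ ⊥ := by
  obtain ⟨u, hu, hu0⟩ := Submodule.exists_mem_ne_zero_of_ne_bot hU
  obtain ⟨v, hv, hv0, hv1⟩ := D.exists_fix hb hu hu0
  intro h
  have : v ∈ fix (D.b i) U := mem_fix.2 ⟨hv, hv1⟩
  rw [h] at this
  exact hv0 (by simpa using this)

theorem two_le [CharP F 2] [FiniteDimensional F V] {δ : ℕ}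
    (hδ : ∀ U : Submodule F V, U ≠ ⊥ → (∀ g ∈ D.Λ, Inv g U) → δ ≤ finrank F U)
    {i : ι} {U : Submodule F V} (hU : U ≠ ⊥) (hΛ : ∀ g ∈ D.Λ, Inv g U) (hb : Inv (D.b i) U) (hy : Inv (D.y i) U)
    (hf : ∀ u ∈ U, D.y i u = u → u = 0) : 2 * δ ≤ finrank F U := by
  have h1 := hδ (fix (D.b i) U) (D.fix_ne_bot hU hb) (fun g hg => inv_fix (hΛ g hg) (D.lb g hg i))
  have h2 := D.half_le hy hf
  omega

theorem exists_minimal [FiniteDimensional F V] {Λ : Set (V ≃ₗ[F] V)} {U : Submodule F V} (hU : U ≠ ⊥)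
    (hΛ : ∀ g ∈ Λ, Inv g U) : ∃ M : Submodule F V, M ≠ ⊥ ∧ M ≤ U ∧ (∀ g ∈ Λ, Inv g M) ∧
      ∀ N : Submodule F V, N ≤ M → (∀ g ∈ Λ, Inv g N) → N = ⊥ ∨ N = M := by
  classical
  have hex : ∃ k, ∃ M : Submodule F V, M ≠ ⊥ ∧ M ≤ U ∧ (∀ g ∈ Λ, Inv g M) ∧ finrank F M = k :=
    ⟨_, U, hU, le_rfl, hΛ, rfl⟩
  obtain ⟨M, h1, h2, h3, h4⟩ := Nat.find_spec hex
  refine ⟨M, h1, h2, h3, fun N hN hNΛ => ?_⟩
  by_cases hN0 : N = ⊥
  · exact Or.inl hN0
  · right
    apply Submodule.eq_of_le_of_finrank_le hN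
    rw [h4]
    exact Nat.find_min' hex ⟨N, hN0, hN.trans h2, hNΛ, rfl⟩

/-- the refined bound when `End = F_2` and `y i` has no factor of order `3` -/
theorem four_le [CharP F 2] [FiniteDimensional F V] {δ : ℕ}
    (hδ : ∀ U : Submodule F V, U ≠ ⊥ → (∀ g ∈ D.Λ, Inv g U) → δ ≤ finrank F U)
    (hEnd : ∀ M : Submodule F V, M ≠ ⊥ → (∀ g ∈ D.Λ, Inv g M) →
      (∀ N : Submodule F V, N ≤ M → (∀ g ∈ D.Λ, Inv g N) → N = ⊥ ∨ N = M) →
      ∀ f : V →ₗ[F] V, (∀ m ∈ M, f m ∈ M) → (∀ g ∈ D.Λ, ∀ m, f (g m) = g (f m)) →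
      (∀ m ∈ M, f m = 0) ∨ (∀ m ∈ M, f m = m))
    {i : ι} {U : Submodule F V} (hU : U ≠ ⊥) (hΛ : ∀ g ∈ D.Λ, Inv g U) (hb : Inv (D.b i) U) (hy : Inv (D.y i) U)
    (hf : ∀ u ∈ U, D.y i u = u → u = 0) (hf3 : ∀ u ∈ U, D.y i (D.y i (D.y i u)) = u → u = 0) :
    2 * (2 * δ) ≤ finrank F U := by
  have hΛ' : ∀ g ∈ D.Λ, Inv g (fix (D.b i) U) := fun g hg => inv_fix (hΛ g hg) (D.lb g hg i)
  obtain ⟨M, hM0, hMU, hMΛ, hMmin⟩ := exists_minimal (D.fix_ne_bot hU hb) hΛ'
  set s : V →ₗ[F] V := (D.y i : V →ₗ[F] V) + ((D.y i)⁻¹ : V ≃ₗ[F] V) with hs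
  have hsv : ∀ v, s v = D.y i v + (D.y i)⁻¹ v := fun v => rfl
  have hsΛ : ∀ g ∈ D.Λ, ∀ m, s (g m) = g (s m) := by
    intro g hg m
    rw [hsv, hsv, map_add, apply_commute (D.ly g hg i), apply_commute (D.ly g hg i).inv_right]
  have hyinv : Inv (D.y i)⁻¹ U := inv_inv hy
  have hsU : ∀ v ∈ fix (D.b i) U, s v ∈ fix (D.b i) U := by
    intro v hv
    obtain ⟨hv1, hv2⟩ := mem_fix.1 hv
    refine mem_fix.2 ⟨U.add_mem (hy v hv1) (hyinv v hv1), ?_⟩
    rw [hsv, map_add, D.b_y, hv2]
    have : D.b i ((D.y i)⁻¹ v) = D.y i v := by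
      have h1 := D.b_y i ((D.y i)⁻¹ v)
      rw [D.y_yinv, hv2] at h1
      have h2 := congrArg (D.y i) h1
      rw [D.y_yinv] at h2
      exact h2.symm
    rw [this, add_comm]
  have hneg : ∀ x : V, -x = x := fun x => by
    have : (2 : F) • x = 0 := by rw [CharTwo.two_eq_zero, zero_smul]
    rw [two_smul] at this
    exact (eq_neg_of_add_eq_zero_left this).symm
  have hnot : ¬ ∀ m ∈ M, s m ∈ M := by
    intro h
    obtain ⟨m, hm, hm0⟩ := Submodule.exists_mem_ne_zero_of_ne_bot hM0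
    have hmU : m ∈ U := (mem_fix.1 (hMU hm)).1
    rcases hEnd M hM0 hMΛ hMmin s h hsΛ with h1 | h1
    · have h2 := h1 m hm
      rw [hsv] at h2
      have h3 : D.y i m = (D.y i)⁻¹ m := by
        rw [← hneg ((D.y i)⁻¹ m)]
        exact eq_neg_of_add_eq_zero_left h2
      have h4 : D.y i (D.y i m) = m := by
        rw [h3, D.y_yinv]
      exact hm0 (hf m hmU (fixed_of_sq (D.odd i) (D.pow i) h4))
    · have h2 := h1 m hm
      rw [hsv] at h2
      -- y m + y⁻¹ m = m, so y (y m) + m = y m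
      have h3 : D.y i (D.y i m) + m = D.y i m := by
        have := congrArg (D.y i) h2
        rw [map_add, D.y_yinv] at this
        exact this
      have h4 : D.y i (D.y i m) = D.y i m + m := by
        have : D.y i (D.y i m) = D.y i m - m := eq_sub_of_add_eq h3
        rw [this, sub_eq_add_neg, hneg]
      have h5 : D.y i (D.y i (D.y i m)) = m := by
        rw [h4, map_add, h4, add_right_comm]
        have : D.y i m + D.y i m = 0 := by
          nth_rewrite 2 [← hneg (D.y i m)]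
          exact add_neg_cancel _
        rw [this, zero_add]
      exact hm0 (hf3 m hmU h5)
  set M' := M.map s with hM'
  have hM'Λ : ∀ g ∈ D.Λ, Inv g M' := by
    rintro g hg _ ⟨m, hm, rfl⟩
    exact ⟨g m, hMΛ g hg m hm, hsΛ g hg m⟩
  have hM'U : M' ≤ fix (D.b i) U := by
    rintro _ ⟨m, hm, rfl⟩
    exact hsU m (hMU hm)
  have hM'0 : M' ≠ ⊥ := by
    intro h
    apply hnot
    intro m hm
    have : s m ∈ M' := ⟨m, hm, rfl⟩
    rw [h, Submodule.mem_bot] at this
    rw [this]
    exact M.zero_mem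
  have hd : M ⊓ M' = ⊥ := by
    rcases hMmin (M ⊓ M') inf_le_left
      (fun g hg u hu => ⟨hMΛ g hg u hu.1, hM'Λ g hg u hu.2⟩) with h | h
    · exact h
    · exfalso
      have h1 : M ≤ M' := by rw [← h]; exact inf_le_right
      have h2 : M = M' := Submodule.eq_of_le_of_finrank_le h1 (Submodule.finrank_map_le s M)
      apply hnot
      intro m hm
      have : s m ∈ M' := ⟨m, hm, rfl⟩
      rw [← h2] at this
      exact this
  have h1 := hδ M hM0 hMΛ
  have h2 := hδ M' hM'0 hM'Λ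
  have h3 := Submodule.finrank_sup_add_finrank_inf_eq M M'
  rw [hd, finrank_bot] at h3
  have h4 := Submodule.finrank_mono (sup_le hMU hM'U)
  have h5 := D.half_le hy hf
  omega

end Data

end Cfsg.Agent.Omega.W5.Dih
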