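import Cfsg.Agent.Omega.EH3.Row
import Cfsg.Agent.Omega.EH3.NFive

/-!
# EH3: the case `F*(H) = ⟨d⟩ × L` (helper423)

Configuration `Cfg` of EH3, `L` a normal odd cover of `K` in `H`.
* `card_le` : `t ∈ X`, `t ≠ 1` centralises `L` ⇒ `w ≤ r + 2`, `RK K r`;
* `Tri` : moreover `d` of order 3 is inverted by `t`, centralises `L` and is fixed point free on `V`;
* `Tri.le` : then `n ≤ w`, if `LBs K n` (`L` acts on `C_V(t)`, of order `2^w`, with the invariant symplectic form
  `b u (ρ d u')`);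
* `Tri.dead` : so `w ≥ 6`, `LBs K n` (or `n = 6`), `RK K r`, `r + 2 < n` is impossible;
* `Tri.three` : `m_3(H) ≤ 2` implies `m_3(L) ≤ 1`.
-/

set_option autoImplicit false

namespace Cfsg.Agent.Omega.W5.SThree

open Subgroup Cfsg Cfsg.Agent.Omega.TwoF Cfsg.Agent.Omega.EH3

universe u v

variable {K : Type v} [Group K] {H V : Type u} [Group H] [AddCommGroup V] [Module (ZMod 2) V]
  {ρ : H →* (V ≃ₗ[ZMod 2] V)} {b : LinearMap.BilinForm (ZMod 2) V} {q : V → ZMod 2} {a : V}
  {D : Submodule (ZMod 2) V} {X : Subgroup H} {w : ℕ} {L : Subgroup H} {π : L →* K}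

theorem perfect_of_cover (hπ : OddCover π) : ⁅L, L⁆ = L := by
  have h1 := hπ.perf
  rw [commutator_def] at h1
  have h2 : (⁅(⊤ : Subgroup L), (⊤ : Subgroup L)⁆).map L.subtype = (⊤ : Subgroup L).map L.subtype := by rw [h1]
  rw [map_commutator, ← MonoidHom.range_eq_map, range_subtype] at h2
  exact h2

theorem ne_bot_of_cover [Nontrivial K] (hπ : OddCover π) : L ≠ ⊥ := by
  rintro rfl
  obtain ⟨k, hk⟩ := exists_ne (1 : K)
  obtain ⟨l, rfl⟩ := hπ.surj k
  exact hk (by rw [Subsingleton.elim l 1, map_one])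

/-- A complement of `⟨t⟩` in `X`. -/
theorem exists_compl (C : Cfg ρ b q a D X w) {t : H} (ht : t ∈ X) (ht1 : t ≠ 1) :
    ∃ A : Subgroup H, A ≤ X ∧ t ∉ A ∧ Nat.card A = 2 ^ (w - 2) := by
  have hfin := C.finite_H
  obtain ⟨c, hc⟩ := C.exists_off
  -- a vector of `D` moved by `t`
  obtain ⟨d0, hd0, hd1⟩ : ∃ d ∈ D, b d (Cfg.sig ρ c t) ≠ 0 := by
    by_contra hcon
    push Not at hcon
    exact ht1 (C.X_semi t ht c hc (C.mem_D_of_perp_D hcon))
  have hmove : ρ t d0 = d0 + a := by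
    rw [C.X_D_eq hc ht hd0, zmod_two_ne hd1, one_smul]
  let A : Subgroup H :=
    { carrier := {x | x ∈ X ∧ ρ x d0 = d0}
      mul_mem' := by
        rintro x y ⟨hx, hx1⟩ ⟨hy, hy1⟩
        exact ⟨X.mul_mem hx hy, by rw [C.ρ_mul, hy1, hx1]⟩
      one_mem' := ⟨X.one_mem, C.ρ_one _⟩
      inv_mem' := by
        rintro x ⟨hx, hx1⟩
        exact ⟨X.inv_mem hx, C.fix_inv hx1⟩ }
  have hmem : ∀ x, x ∈ A ↔ x ∈ X ∧ ρ x d0 = d0 := fun x => Iff.rfl
  have hAX : A ≤ X := fun x hx => hx.1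
  have htA : t ∉ A := by
    intro h
    have h1 := h.2
    rw [hmove] at h1
    exact C.a_ne (by simpa using h1)
  refine ⟨A, hAX, htA, ?_⟩
  have hidx : (A.subgroupOf X).index = 2 := by
    rw [Subgroup.index_eq_two_iff]
    refine ⟨⟨t, ht⟩, fun x => ?_⟩
    rw [mem_subgroupOf, mem_subgroupOf]
    show Xor ((x : H) * t ∈ A) ((x : H) ∈ A)
    rw [hmem, hmem]
    have h1 : ρ ((x : H) * t) d0 = ρ (x : H) d0 + a := by
      rw [C.ρ_mul, hmove, map_add, C.X_a x.2]
    rcases C.X_D x x.2 d0 hd0 with h2 | h2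
    · right
      refine ⟨⟨x.2, h2⟩, ?_⟩
      rintro ⟨-, h3⟩
      rw [h1, h2] at h3
      exact C.a_ne (by simpa using h3)
    · left
      refine ⟨⟨X.mul_mem x.2 ht, by rw [h1, h2, C.add_add_self]⟩, ?_⟩
      rintro ⟨-, h3⟩
      rw [h2] at h3
      exact C.a_ne (by simpa using h3)
  have h2 := (A.subgroupOf X).card_mul_index
  rw [hidx, Nat.card_congr (subgroupOfEquivOfLe hAX).toEquiv, C.card_X] at h2
  have h3 : 2 ^ (w - 1) = 2 ^ (w - 2) * 2 := by
    rw [← pow_succ]
    congr 1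
    have := C.five
    omega
  rw [h3] at h2
  exact Nat.eq_of_mul_eq_mul_right (by norm_num) h2

/-- **The rank bound**, if `X` meets `C(L)`: `w ≤ r + 2`. -/
theorem card_le (C : Cfg ρ b q a D X w) {r : ℕ} (hr : RK K r) [Nontrivial K] (hK : center K = ⊥)
    (hL : L.Normal) (hπ : OddCover π) {t : H} (ht : t ∈ X) (ht1 : t ≠ 1) (htL : ∀ l ∈ L, l * t = t * l) :
    w ≤ r + 2 := by
  obtain ⟨A, hAX, htA, hA⟩ := exists_compl C ht ht1
  have hc : A ⊓ centralizer (L : Set H) = ⊥ := by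
    rw [eq_bot_iff]
    rintro x ⟨hx, hxL⟩
    rw [mem_bot]
    by_contra hx1
    have h1 := C.eq_of_cent hL (perfect_of_cover hπ) (ne_bot_of_cover hπ) (hAX hx) ht hx1 ht1
      (fun l hl => mem_centralizer_iff.1 hxL l hl) htL
    exact htA (h1 ▸ hx)
  have h1 := hr.card_le hπ hK (A := A) (fun x hx => by rw [pow_two]; exact C.X_sq x (hAX hx)) hc
  rw [hA] at h1
  have h2 := (Nat.pow_le_pow_iff_right (by norm_num)).mp h1
  omega

/-- The element `d` of order 3. -/
structure Tri (ρ : H →* (V ≃ₗ[ZMod 2] V)) (X L : Subgroup H) (d t : H) : Prop where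
  t_mem : t ∈ X
  t_ne : t ≠ 1
  d_ne : d ≠ 1
  d_three : d ^ 3 = 1
  inv : t * d * t⁻¹ = d⁻¹
  t_comm : ∀ l ∈ L, l * t = t * l
  d_comm : ∀ l ∈ L, l * d = d * l
  fpf : ∀ v, ρ d v = v → v = 0

namespace Tri

variable {d t : H}

theorem rank_le (T : Tri ρ X L d t) (C : Cfg ρ b q a D X w) {r : ℕ} (hr : RK K r) [Nontrivial K]
    (hK : center K = ⊥) (hL : L.Normal) (hπ : OddCover π) : w ≤ r + 2 :=
  card_le C hr hK hL hπ T.t_mem T.t_ne T.t_comm

section mod

variable (T : Tri ρ X L d t) (C : Cfg ρ b q a D X w)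
include T C

theorem t_t (v : V) : ρ t (ρ t v) = v := by
  rw [← C.ρ_mul, C.X_sq t T.t_mem, C.ρ_one]

theorem ddd (v : V) : ρ d (ρ d (ρ d v)) = v := by
  rw [← C.ρ_mul, ← C.ρ_mul, show d * d * d = d ^ 3 by rw [pow_succ, pow_two], T.d_three, C.ρ_one]

theorem sum_eq (v : V) : v + ρ d v + ρ d (ρ d v) = 0 := by
  apply T.fpf
  rw [map_add, map_add, T.ddd C]
  abel

/-- `τ δ = δ² τ` -/
theorem t_d (v : V) : ρ t (ρ d v) = ρ d (ρ d (ρ t v)) := by
  have h1 : t * d = d * d * t := by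
    have h2 := T.inv
    rw [mul_inv_eq_iff_eq_mul] at h2
    have h3 : d⁻¹ = d * d := by
      rw [inv_eq_iff_mul_eq_one, ← mul_assoc, show d * d * d = d ^ 3 by rw [pow_succ, pow_two], T.d_three]
    rw [h2, h3]
  rw [← C.ρ_mul, h1, C.ρ_mul, C.ρ_mul]

theorem dd_eq (v : V) : ρ d (ρ d v) = v + ρ d v := by
  have h1 := T.sum_eq C v
  exact (C.add_eq_zero.1 h1).symm

omit T in
theorem b_d (u v : V) : b (ρ d u) (ρ d v) = b u v := C.b_inv d u v

/-- the submodule `U = C_V(t)` -/
def _root_.Cfsg.Agent.Omega.W5.SThree.U (ρ : H →* (V ≃ₗ[ZMod 2] V)) (t : H) : Submodule (ZMod 2) V where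
  carrier := {v | ρ t v = v}
  add_mem' := by
    intro u v hu hv
    show ρ t (u + v) = u + v
    rw [map_add, show ρ t u = u from hu, show ρ t v = v from hv]
  zero_mem' := map_zero _
  smul_mem' := by
    intro c v hv
    show ρ t (c • v) = c • v
    rw [map_smul, show ρ t v = v from hv]

omit C T in
theorem _root_.Cfsg.Agent.Omega.W5.SThree.mem_U {t : H} {v : V} : v ∈ U ρ t ↔ ρ t v = v := Iff.rfl

theorem norm_mem (v : V) : v + ρ t v ∈ U ρ t := by
  rw [mem_U, map_add, T.t_t C, add_comm]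

/-- `N(δ u) = u` for `u ∈ U` -/
theorem norm_d {u : V} (hu : u ∈ U ρ t) : ρ d u + ρ t (ρ d u) = u := by
  rw [T.t_d C, mem_U.1 hu, T.dd_eq C]
  have := C.add_self (ρ d u)
  calc ρ d u + (u + ρ d u) = u + (ρ d u + ρ d u) := by abel
    _ = u := by rw [this, add_zero]

/-- `V = U ⊕ δU` -/
theorem card_U : Nat.card (U ρ t) = 2 ^ w := by
  have := C.finite_V
  let f : U ρ t × U ρ t → V := fun p => (p.1 : V) + ρ d (p.2 : V)
  have hf : Function.Bijective f := by
    constructor
    · rintro ⟨u1, u2⟩ ⟨v1, v2⟩ h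
      have h0 : (u1 : V) + ρ d (u2 : V) = (v1 : V) + ρ d (v2 : V) := h
      -- apply the norm
      have key : ∀ x y : U ρ t, ((x : V) + ρ d (y : V)) + ρ t ((x : V) + ρ d (y : V)) = y := by
        intro x y
        rw [map_add, mem_U.1 x.2]
        have h2 := T.norm_d C y.2
        have h3 := C.add_self (x : V)
        calc (x : V) + ρ d (y : V) + ((x : V) + ρ t (ρ d (y : V)))
            = ((x : V) + x) + (ρ d (y : V) + ρ t (ρ d (y : V))) := by abel
          _ = y := by rw [h2, h3, zero_add]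
      have h2 : (u2 : V) = v2 := by rw [← key u1 u2, ← key v1 v2, h0]
      have h1 : (u1 : V) = v1 := by
        rw [h2] at h0
        exact add_right_cancel h0
      rw [Subtype.ext h1, Subtype.ext h2]
    · intro v
      refine ⟨(⟨(v + ρ t v) + (ρ d v + ρ t (ρ d v)), (U ρ t).add_mem (T.norm_mem C v) (T.norm_mem C _)⟩,
        ⟨v + ρ t v, T.norm_mem C v⟩), ?_⟩
      show (v + ρ t v) + (ρ d v + ρ t (ρ d v)) + ρ d (v + ρ t v) = v
      rw [T.t_d C, map_add]
      have h1 := T.sum_eq C (ρ t v)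
      have h2 := C.add_self (ρ d v)
      calc (v + ρ t v) + (ρ d v + ρ d (ρ d (ρ t v))) + (ρ d v + ρ d (ρ t v))
          = v + (ρ t v + ρ d (ρ t v) + ρ d (ρ d (ρ t v))) + (ρ d v + ρ d v) := by abel
        _ = v := by rw [h1, h2, add_zero, add_zero]
  have h1 : Nat.card (U ρ t × U ρ t) = Nat.card V := Nat.card_congr (Equiv.ofBijective f hf)
  rw [Nat.card_prod, C.card_V] at h1
  have h2 : 2 ^ (2 * w) = 2 ^ w * 2 ^ w := by rw [← pow_add]; congr 1; omega
  rw [h2] at h1
  exact Nat.mul_self_inj.1 h1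

/-- `B(u, u') = b(u, δ u')` is symmetric on `U`. -/
theorem B_symm {u u' : V} (hu : u ∈ U ρ t) (hu' : u' ∈ U ρ t) : b u (ρ d u') = b u' (ρ d u) := by
  have h1 : b u (ρ d u') = b u (ρ d (ρ d u')) := by
    have h2 := C.b_inv t u (ρ d u')
    rw [mem_U.1 hu, T.t_d C, mem_U.1 hu'] at h2
    exact h2.symm
  rw [h1, ← b_d C, T.ddd C, C.b_comm]

/-- `U` is totally isotropic. -/
theorem b_U {u u' : V} (hu : u ∈ U ρ t) (hu' : u' ∈ U ρ t) : b u u' = 0 := by
  have h1 : b u (ρ d u') = b u (ρ d (ρ d u')) := by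
    have h2 := C.b_inv t u (ρ d u')
    rw [mem_U.1 hu, T.t_d C, mem_U.1 hu'] at h2
    exact h2.symm
  rw [T.dd_eq C, map_add] at h1
  have h3 : b u u' = b u (ρ d u') + b u (ρ d u') := by
    calc b u u' = b u u' + (b u (ρ d u') + b u (ρ d u')) := by rw [CharTwo.add_self_eq_zero, add_zero]
      _ = (b u u' + b u (ρ d u')) + b u (ρ d u') := by ring
      _ = _ := by rw [← h1]
  rw [h3, CharTwo.add_self_eq_zero]

/-- `B` is nondegenerate. -/
theorem B_nondeg {u : V} (hu : u ∈ U ρ t) (h : ∀ u' ∈ U ρ t, b u (ρ d u') = 0) : u = 0 := by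
  apply C.nondeg
  intro v
  have h1 : v = ((v + ρ t v) + (ρ d v + ρ t (ρ d v))) + ρ d (v + ρ t v) := by
    rw [T.t_d C, map_add]
    have h1 := T.sum_eq C (ρ t v)
    have h2 := C.add_self (ρ d v)
    symm
    calc (v + ρ t v) + (ρ d v + ρ d (ρ d (ρ t v))) + (ρ d v + ρ d (ρ t v))
        = v + (ρ t v + ρ d (ρ t v) + ρ d (ρ d (ρ t v))) + (ρ d v + ρ d v) := by abel
      _ = v := by rw [h1, h2, add_zero, add_zero]
  rw [h1, map_add, h _ (T.norm_mem C v), add_zero]
  exact T.b_U C hu ((U ρ t).add_mem (T.norm_mem C v) (T.norm_mem C _))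

theorem comm_t' {l : H} (hl : l ∈ L) (v : V) : ρ l (ρ t v) = ρ t (ρ l v) := by
  rw [← C.ρ_mul, ← C.ρ_mul, T.t_comm l hl]

theorem comm_d' {l : H} (hl : l ∈ L) (v : V) : ρ l (ρ d v) = ρ d (ρ l v) := by
  rw [← C.ρ_mul, ← C.ρ_mul, T.d_comm l hl]

theorem inv_U {l : H} (hl : l ∈ L) {v : V} (hv : v ∈ U ρ t) : ρ l v ∈ U ρ t := by
  rw [mem_U, ← T.comm_t' C hl, mem_U.1 hv]

omit T in
/-- `C_V(L) = 0` -/
theorem fix_L (hL : L.Normal) (h1 : L ≠ ⊥) {v : V} (hv : ∀ l ∈ L, ρ l v = v) : v = 0 := by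
  let W : Submodule (ZMod 2) V :=
    { carrier := {v | ∀ l ∈ L, ρ l v = v}
      add_mem' := by
        intro x y hx hy l hl
        rw [map_add, hx l hl, hy l hl]
      zero_mem' := fun l _ => map_zero _
      smul_mem' := by
        intro c x hx l hl
        rw [map_smul, hx l hl] }
  have hW : ∀ x, x ∈ W ↔ ∀ l ∈ L, ρ l x = x := fun x => Iff.rfl
  rcases C.irr W (by
    intro h x hx l hl
    have h2 := hx (h⁻¹ * l * h) (by simpa using hL.conj_mem l hl h⁻¹)
    calc ρ l (ρ h x) = ρ h (ρ (h⁻¹ * l * h) x) := by rw [← C.ρ_mul, ← C.ρ_mul]; congr 2; group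
      _ = ρ h x := by rw [h2]) with h2 | h2
  · have h3 : v ∈ W := hv
    rw [h2, Submodule.mem_bot] at h3
    exact h3
  · exfalso
    apply h1
    rw [eq_bot_iff]
    intro l hl
    rw [mem_bot]
    apply C.ext
    intro x
    have h3 : x ∈ W := by rw [h2]; trivial
    rw [C.ρ_one]
    exact h3 l hl

/-- `B` is alternating. -/
theorem B_alt (hL : L.Normal) (h1 : L ≠ ⊥) {u : V} (hu : u ∈ U ρ t) : b u (ρ d u) = 0 := by
  have hfin := C.finite_V
  -- the functional `F v = B(Nv, Nv)`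
  let N : V → V := fun v => v + ρ t v
  have hN : ∀ v, N v ∈ U ρ t := T.norm_mem C
  have hNadd : ∀ x y, N (x + y) = N x + N y := by
    intro x y
    show x + y + ρ t (x + y) = (x + ρ t x) + (y + ρ t y)
    rw [map_add]; abel
  let F0 : V →+ ZMod 2 := AddMonoidHom.mk' (fun v => b (N v) (ρ d (N v))) (by
    intro x y
    show b (N (x + y)) (ρ d (N (x + y))) = b (N x) (ρ d (N x)) + b (N y) (ρ d (N y))
    rw [hNadd, map_add (ρ d), map_add, map_add, LinearMap.add_apply, LinearMap.add_apply,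
      T.B_symm C (hN y) (hN x)]
    have h2 := CharTwo.add_self_eq_zero (b (N x) (ρ d (N y)))
    calc b (N x) (ρ d (N x)) + b (N x) (ρ d (N y)) + (b (N x) (ρ d (N y)) + b (N y) (ρ d (N y)))
        = b (N x) (ρ d (N x)) + b (N y) (ρ d (N y)) + (b (N x) (ρ d (N y)) + b (N x) (ρ d (N y))) := by ring
      _ = _ := by rw [h2, add_zero])
  let F : V →ₗ[ZMod 2] ZMod 2 := F0.toZModLinearMap 2
  have hF : ∀ v, F v = b (N v) (ρ d (N v)) := fun v => rfl
  have hFinv : ∀ l ∈ L, ∀ v, F (ρ l v) = F v := by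
    intro l hl v
    have h2 : N (ρ l v) = ρ l (N v) := by
      show ρ l v + ρ t (ρ l v) = ρ l (v + ρ t v)
      rw [map_add, T.comm_t' C hl]
    rw [hF, hF, h2, ← T.comm_d' C hl, C.b_inv]
  let c : V := (b.toDual C.b_nondeg).symm F
  have hc : ∀ v, b c v = F v := fun v => LinearMap.BilinForm.apply_toDual_symm_apply F v
  have hcfix : ∀ l ∈ L, ρ l c = c := by
    intro l hl
    rw [← C.add_eq_zero]
    apply C.nondeg
    intro v
    have h2 : b (ρ l c) v = b c v := by
      have h3 := C.b_inv l⁻¹ (ρ l c) v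
      rw [C.ρ_inv_apply, hc, hFinv l⁻¹ (L.inv_mem hl)] at h3
      rw [← h3, hc]
    rw [map_add, LinearMap.add_apply, h2, CharTwo.add_self_eq_zero]
  have hc0 : c = 0 := fix_L C hL h1 hcfix
  have h2 := hc (ρ d u)
  rw [hc0, map_zero, LinearMap.zero_apply, hF] at h2
  have h3 : N (ρ d u) = u := T.norm_d C hu
  rw [h3] at h2
  exact h2.symm

end mod

/-- the action of `L` on `U` -/
def actU (T : Tri ρ X L d t) (C : Cfg ρ b q a D X w) : L →* MulAut (Multiplicative (U ρ t)) where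
  toFun l := AddEquiv.toMultiplicative
    { toFun := fun u => ⟨ρ l u, T.inv_U C l.2 u.2⟩
      invFun := fun u => ⟨ρ (l : H)⁻¹ u, T.inv_U C (L.inv_mem l.2) u.2⟩
      left_inv := fun u => Subtype.ext (C.ρ_inv_apply _ _)
      right_inv := fun u => Subtype.ext (C.ρ_apply_inv _ _)
      map_add' := fun u v => Subtype.ext (map_add _ _ _) }
  map_one' := by
    ext u
    exact C.ρ_one _
  map_mul' g h := by
    ext u
    exact C.ρ_mul _ _ _

theorem actU_apply (T : Tri ρ X L d t) (C : Cfg ρ b q a D X w) (l : L) (u : Multiplicative (U ρ t)) :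
    ((Multiplicative.toAdd (T.actU C l u) : U ρ t) : V) = ρ l (Multiplicative.toAdd u : U ρ t) := rfl

/-- **The bound `n ≤ w`.** -/
theorem le (T : Tri ρ X L d t) (C : Cfg ρ b q a D X w) {n : ℕ} (hn : LBs.{u} K n) [Nontrivial K]
    (hL : L.Normal) (hπ : OddCover π) : n ≤ w := by
  have := C.finite_H
  have := C.finite_V
  have hLne := ne_bot_of_cover hπ
  have h1 := hn L π hπ (Multiplicative (U ρ t)) (T.actU C)
    (fun u v => b (Multiplicative.toAdd u : U ρ t) (ρ d (Multiplicative.toAdd v : U ρ t)))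
    { add_left := fun x y z => by
        show b (((Multiplicative.toAdd x : U ρ t) : V) + ((Multiplicative.toAdd y : U ρ t) : V)) _ = _
        rw [map_add, LinearMap.add_apply]
      add_right := fun x y z => by
        show b _ (ρ d (((Multiplicative.toAdd y : U ρ t) : V) + ((Multiplicative.toAdd z : U ρ t) : V))) = _
        rw [map_add, map_add]
      alt := fun x => T.B_alt C hL hLne (Multiplicative.toAdd x : U ρ t).2
      nondeg := fun x hx => by
        have h2 := T.B_nondeg C (Multiplicative.toAdd x : U ρ t).2 fun u' hu' => hx (Multiplicative.ofAdd ⟨u', hu'⟩)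
        exact congrArg Multiplicative.ofAdd (Subtype.ext h2) }
    (fun g x y => by
      show b (ρ g _) (ρ d (ρ g _)) = _
      rw [← T.comm_d' C g.2, C.b_inv])
    (fun x => by
      rw [pow_two]
      exact congrArg Multiplicative.ofAdd (Subtype.ext (C.add_self _)))
    (by
      intro h
      apply hLne
      rw [eq_bot_iff]
      intro l hl
      rw [mem_bot]
      have hfix : ∀ u ∈ U ρ t, ρ l u = u := fun u hu => by
        have h2 := DFunLike.congr_fun (DFunLike.congr_fun h (⟨l, hl⟩ : L)) (Multiplicative.ofAdd (⟨u, hu⟩ : U ρ t))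
        exact congrArg (fun x : Multiplicative (U ρ t) => ((Multiplicative.toAdd x : U ρ t) : V)) h2
      apply C.ext
      intro v
      rw [C.ρ_one]
      have h1 : v = ((v + ρ t v) + (ρ d v + ρ t (ρ d v))) + ρ d (v + ρ t v) := by
        rw [T.t_d C, map_add]
        have h1 := T.sum_eq C (ρ t v)
        have h2 := C.add_self (ρ d v)
        symm
        calc (v + ρ t v) + (ρ d v + ρ d (ρ d (ρ t v))) + (ρ d v + ρ d (ρ t v))
            = v + (ρ t v + ρ d (ρ t v) + ρ d (ρ d (ρ t v))) + (ρ d v + ρ d v) := by abel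
          _ = v := by rw [h1, h2, add_zero, add_zero]
      have hu1 := hfix _ ((U ρ t).add_mem (T.norm_mem C v) (T.norm_mem C (ρ d v)))
      have hu2 := hfix _ (T.norm_mem C v)
      rw [h1, map_add, hu1, T.comm_d' C hl, hu2])
  have h2 : Nat.card (Multiplicative (U ρ t)) = 2 ^ w := T.card_U C
  rw [h2] at h1
  exact (Nat.pow_le_pow_iff_right (by norm_num)).mp h1

/-- **The numerical criterion.** -/
theorem dead (T : Tri ρ X L d t) (C : Cfg ρ b q a D X w) {n r : ℕ} (hn : n = 6 ∨ LBs.{u} K n) (hr : RK K r)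
    (hnr : r + 2 < n) [Nontrivial K] (hK : center K = ⊥) (hL : L.Normal) (hπ : OddCover π) : False := by
  have h1 := T.rank_le C hr hK hL hπ
  have h2 := C.six
  rcases hn with hn | hn
  · omega
  · have h3 := T.le C hn hL hπ
    omega

/-- `d ∉ L` -/
theorem d_not_mem (T : Tri ρ X L d t) : d ∉ L := by
  intro hd
  have h1 := T.inv
  rw [← T.t_comm d hd, mul_inv_cancel_right] at h1
  apply T.d_ne
  have h2 : d * d = 1 := by nth_rewrite 1 [h1]; exact inv_mul_cancel d
  have h3 := T.d_three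
  rwa [pow_succ, pow_two, h2, one_mul] at h3

/-- **`m_3(H) ≤ 2` implies `m_3(L) ≤ 1`.** -/
theorem three (T : Tri ρ X L d t) (C : Cfg ρ b q a D X w) (h3 : PRankLE 3 2 H) : PRankLE 3 1 L := by
  have hfin := C.finite_H
  intro A hA hA3
  have hc : ∀ x ∈ A, ∀ y ∈ A, x * y = y * x := fun x hx y hy => by
    have := hA.is_comm.comm (⟨x, hx⟩ : A) ⟨y, hy⟩
    exact congrArg Subtype.val this
  -- the group `⟨d⟩ A`
  have hcomm : ∀ m : ZMod 3, ∀ l : L, (l : H) * d ^ m.val = d ^ m.val * l := by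
    intro m l
    exact (Commute.pow_right (T.d_comm l l.2) m.val)
  have hdv : ∀ m n : ℕ, m % 3 = n % 3 → d ^ m = d ^ n := by
    intro m n hmn
    rw [← Nat.mod_add_div m 3, ← Nat.mod_add_div n 3, hmn, pow_add, pow_add, pow_mul, pow_mul, T.d_three,
      one_pow, one_pow]
  let f : Multiplicative (ZMod 3) × A →* H :=
    { toFun := fun p => d ^ (Multiplicative.toAdd p.1).val * ((p.2 : L) : H)
      map_one' := by
        show d ^ (0 : ZMod 3).val * ((1 : L) : H) = 1
        rw [ZMod.val_zero, pow_zero, one_mul]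
        rfl
      map_mul' := by
        rintro ⟨m, x⟩ ⟨n, y⟩
        show d ^ (Multiplicative.toAdd m + Multiplicative.toAdd n).val * (((x : L) : H) * ((y : L) : H)) = _
        rw [ZMod.val_add, hdv _ ((Multiplicative.toAdd m).val + (Multiplicative.toAdd n).val) (Nat.mod_mod _ _),
          pow_add]
        have h1 := hcomm (Multiplicative.toAdd n) (x : L)
        calc d ^ (Multiplicative.toAdd m).val * d ^ (Multiplicative.toAdd n).val * (((x : L) : H) * ((y : L) : H))
            = d ^ (Multiplicative.toAdd m).val * (d ^ (Multiplicative.toAdd n).val * ((x : L) : H)) *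
                ((y : L) : H) := by group
          _ = _ := by rw [← h1]; group }
  have hf : Function.Injective f := by
    rw [injective_iff_map_eq_one]
    rintro ⟨m, x⟩ h
    have h0 : d ^ (Multiplicative.toAdd m).val * ((x : L) : H) = 1 := h
    have h1 : d ^ (Multiplicative.toAdd m).val ∈ L := by
      rw [mul_eq_one_iff_eq_inv] at h0
      rw [h0]
      exact L.inv_mem (x : L).2
    have h2 : Multiplicative.toAdd m = 0 := by
      by_contra hm
      apply T.d_not_mem
      have hm2 : (Multiplicative.toAdd m) * (Multiplicative.toAdd m) = 1 := by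
        revert hm
        generalize Multiplicative.toAdd m = k
        revert k
        decide
      have h4 : (d ^ (Multiplicative.toAdd m).val) ^ (Multiplicative.toAdd m).val ∈ L := L.pow_mem h1 _
      rw [← pow_mul, hdv _ 1] at h4
      · rwa [pow_one] at h4
      · have h5 := congrArg ZMod.val hm2
        rw [ZMod.val_mul] at h5
        rw [h5]
        rfl
    rw [h2, ZMod.val_zero, pow_zero, one_mul] at h0
    have h3 : x = 1 := Subtype.ext (Subtype.ext h0)
    rw [h3]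
    exact Prod.ext (congrArg Multiplicative.ofAdd h2) rfl
  have hcard : Nat.card f.range ≤ 3 ^ 2 := by
    refine h3 f.range ⟨⟨?_⟩⟩ ?_
    · rintro ⟨_, ⟨m, x⟩, rfl⟩ ⟨_, ⟨n, y⟩, rfl⟩
      apply Subtype.ext
      show f (m, x) * f (n, y) = f (n, y) * f (m, x)
      rw [← map_mul, ← map_mul]
      congr 1
      refine Prod.ext (mul_comm m n) (Subtype.ext (hc x x.2 y y.2))
    · rintro _ ⟨⟨m, x⟩, rfl⟩
      rw [← map_pow]
      have : (m, x) ^ 3 = (1 : Multiplicative (ZMod 3) × A) := by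
        refine Prod.ext ?_ (Subtype.ext (hA3 x x.2))
        show m ^ 3 = 1
        revert m
        decide
      rw [this, map_one]
  rw [← Nat.card_congr (MonoidHom.ofInjective hf).toEquiv, Nat.card_prod] at hcard
  have h4 : Nat.card (Multiplicative (ZMod 3)) = 3 := by
    rw [show Nat.card (Multiplicative (ZMod 3)) = Nat.card (ZMod 3) from rfl, Nat.card_zmod]
  rw [h4] at hcard
  show Nat.card A ≤ 3 ^ 1
  omega

end Tri

end Cfsg.Agent.Omega.W5.SThree
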