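import Cfsg.Agent.Omega.EH3.Main
import Cfsg.Agent.Omega.EH3.MTwentyTwo.Glue
import Cfsg.Agent.Omega.W5.Rows
import Cfsg.Agent.Omega.W5.SThree
import Cfsg.Agent.J4Type.Top
import Cfsg.Prelude.Def_Spor_J4

/-!
# EH3 for the strongly quasithin groups: the assembly (helper423)

* `RowS3 K` : the row of `K` in the case `F*(H) = ⟨d⟩ × L`; criteria `RowS3.of_dead`, `RowS3.of_three`;
* `RowsS3` : the rows;
* `Inputs.leaf` : THEOREM CL, Theorem SEC, the table `SQK` and the rows imply `LeafEH3 QK`.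
-/

set_option autoImplicit false

namespace Cfsg.Agent.Omega.W5.Main

open Subgroup Cfsg Cfsg.Agent.Omega.TwoF Cfsg.Agent.Omega.EH3 Cfsg.Agent.Omega.EH3.Main
open Cfsg.Agent.Omega.SQK.Frame (SQK)
open Cfsg.Agent.Omega.W5.Rows Cfsg.Agent.Omega.W5.SThree
open Cfsg.Agent.Co2Type.Quad Cfsg.Agent.LargeExtra.Base

universe u v

/-- The class of the strongly quasithin groups. -/
abbrev QK : Frame.Cls.{u} := fun G _ => Quasithin.StrQ G

/-! ### The rows of the case `F*(H) = ⟨d⟩ × L` -/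

/-- **The row of `K`** in the case `F*(H) = ⟨d⟩ × L`, `m_3(H) ≤ 2`. -/
def RowS3 (K : Type v) [Group K] : Prop :=
  ∀ (H V : Type u) [Group H] [AddCommGroup V] [Module (ZMod 2) V] (ρ : H →* (V ≃ₗ[ZMod 2] V))
    (b : LinearMap.BilinForm (ZMod 2) V) (q : V → ZMod 2) (a : V) (D : Submodule (ZMod 2) V) (X : Subgroup H) (w : ℕ)
    (L : Subgroup H) (π : L →* K) (d t : H), L.Normal → OddCover π → Tri ρ X L d t → PRankLE 3 2 H →
    ¬ Cfg ρ b q a D X w

theorem RowS3.equiv {K : Type v} {K' : Type*} [Group K] [Group K'] (e : K ≃* K') (h : RowS3.{u} K') :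
    RowS3.{u} K :=
  fun H V _ _ _ ρ b q a D X w L π d t hL hπ => h H V ρ b q a D X w L (e.toMonoidHom.comp π) d t hL (hπ.comp e)

/-- **The numerical criterion**: `w ≥ 6`, `n ≤ w ≤ r + 2`. -/
theorem RowS3.of_dead {K : Type v} [Group K] [Nontrivial K] (hK : center K = ⊥) {n r : ℕ}
    (hn : n = 6 ∨ LBs.{u} K n) (hr : RK K r) (hnr : r + 2 < n) : RowS3.{u} K :=
  fun _ _ _ _ _ _ _ _ _ _ _ _ _ _ _ _ hL hπ T _ C => T.dead C hn hr hnr hK hL hπ

/-- Two-rank of the automorphism group at most 3. -/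
theorem RowS3.of_rk {K : Type v} [Group K] [Nontrivial K] (hK : center K = ⊥) (hr : RK K 3) : RowS3.{u} K :=
  RowS3.of_dead hK (Or.inl rfl) hr (by norm_num)

/-- The lower bound against the rank. -/
theorem RowS3.of_lb {K : Type v} [Group K] [Nontrivial K] (hK : center K = ⊥) {n r : ℕ}
    (hn : LBs.{u} K n) (hr : RK K r) (hnr : r + 2 < n) : RowS3.{u} K :=
  RowS3.of_dead hK (Or.inr hn) hr hnr

/-- The 3-rank: `m_3(L) ≥ 2` for all odd covers `L` of `K`. -/
theorem RowS3.of_three {K : Type v} [Group K]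
    (h : ∀ (L : Type u) [Group L] [Finite L] (π : L →* K), OddCover π → ¬ PRankLE 3 1 L) : RowS3.{u} K := by
  intro H V _ _ _ ρ b q a D X w L π d t hL hπ T h3 C
  have := C.finite_H
  exact h L π hπ (T.three C h3)

/-- **The rows of the case `F*(H) = ⟨d⟩ × L`.** -/
structure RowsS3 : Prop where
  a7 : RowS3.{u} (alternatingGroup (Fin 7))
  l2even : ∀ (F : Type) [Field F] [Fintype F] (n : ℕ), 2 ≤ n → Fintype.card F = 2 ^ n →
    RowS3.{u} (Matrix.ProjectiveSpecialLinearGroup (Fin 2) F)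
  l2odd : ∀ (F : Type) [Field F] [Fintype F] (p : ℕ), p.Prime → p ≠ 2 →
    Fintype.card F = p ∨ Fintype.card F = p ^ 2 → 4 ≤ Fintype.card F →
    RowS3.{u} (Matrix.ProjectiveSpecialLinearGroup (Fin 2) F)
  l3even : ∀ (F : Type) [Field F] [Fintype F] (n : ℕ), 1 ≤ n → Fintype.card F = 2 ^ n →
    RowS3.{u} (Matrix.ProjectiveSpecialLinearGroup (Fin 3) F)
  l3odd : ∀ (F : Type) [Field F] [Fintype F], (Fintype.card F).Prime → Fintype.card F ≠ 2 →
    RowS3.{u} (Matrix.ProjectiveSpecialLinearGroup (Fin 3) F)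
  l4 : ∀ (F : Type) [Field F] [Fintype F], Fintype.card F = 2 →
    RowS3.{u} (Matrix.ProjectiveSpecialLinearGroup (Fin 4) F)
  l5 : ∀ (F : Type) [Field F] [Fintype F], Fintype.card F = 2 →
    RowS3.{u} (Matrix.ProjectiveSpecialLinearGroup (Fin 5) F)
  u3even : ∀ (F : Type) [Field F] [Fintype F] (q n : ℕ), 2 ≤ n → q = 2 ^ n → Fintype.card F = q ^ 2 →
    RowS3.{u} (PSU 3 F q)
  u3odd : ∀ (F : Type) [Field F] [Fintype F] (q : ℕ), q.Prime → q ≠ 2 → Fintype.card F = q ^ 2 →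
    RowS3.{u} (PSU 3 F q)
  sp4 : ∀ (F : Type) [Field F] [Fintype F] (n : ℕ), 2 ≤ n → Fintype.card F = 2 ^ n → RowS3.{u} (PSp 2 F)
  g2 : ∀ (F : Type) [Field F] [Fintype F] (n : ℕ), 2 ≤ n → Fintype.card F = 2 ^ n →
    RowS3.{u} ↥(Lie.chevG2.group F)
  d4 : ∀ (K : Type) [Field K] [Fintype K] (n : ℕ), 1 ≤ n → Fintype.card K = (2 ^ n) ^ 3 →
    RowS3.{u} ↥(Lie.twistedD4 K (2 ^ n))
  f4 : ∀ (K : Type u) [Group K], Lie.Iso2F4 K → RowS3.{u} K
  tits : ∀ (K : Type u) [Group K], Lie.IsoTits K → RowS3.{u} K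
  sz : ∀ (K : Type u) [Group K], Lie.IsoSuzuki K → RowS3.{u} K
  m11 : ∀ (K : Type u) [Group K], Spor.IsoM11 K → RowS3.{u} K
  m12 : ∀ (K : Type u) [Group K], Spor.IsoM12 K → RowS3.{u} K
  m22 : ∀ (K : Type u) [Group K], Spor.IsoM22 K → RowS3.{u} K
  m23 : ∀ (K : Type u) [Group K], Spor.IsoM23 K → RowS3.{u} K
  m24 : ∀ (K : Type u) [Group K], Spor.IsoM24 K → RowS3.{u} K
  j1 : ∀ (K : Type u) [Group K], Spor.IsoJ1 K → RowS3.{u} K
  j2 : ∀ (K : Type u) [Group K], Spor.IsoJ2 K → RowS3.{u} K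
  j4 : ∀ (K : Type u) [Group K], Spor.IsoJ4 K → RowS3.{u} K
  hs : ∀ (K : Type u) [Group K], Spor.IsoHS K → RowS3.{u} K
  he : ∀ (K : Type u) [Group K], Spor.IsoHe K → RowS3.{u} K
  ru : ∀ (K : Type u) [Group K], Spor.IsoRu K → RowS3.{u} K

theorem RowsS3.out (R : RowsS3.{u}) {K : Type u} [Group K] (h : SQK K) : RowS3.{u} K := by
  rcases h with ⟨⟨e⟩⟩ | h | h | h | h | h | h | h | h | h | h | h
  · exact R.a7.equiv e
  · obtain ⟨F, _, _, h4, ⟨n, hn⟩ | ⟨p, hp, hp2, h⟩, ⟨e⟩⟩ := h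
    · have : 2 ≤ n := by
        by_contra hcon
        have : n ≤ 1 := by omega
        have h5 : 2 ^ n ≤ 2 ^ 1 := Nat.pow_le_pow_right (by norm_num) this
        omega
      exact (R.l2even F n this hn).equiv e
    · exact (R.l2odd F p hp hp2 h h4).equiv e
  · obtain ⟨F, _, _, ⟨n, hn⟩ | ⟨hp, hp2⟩, ⟨e⟩⟩ := h
    · exact (R.l3even F n (two_pow_pos hn) hn).equiv e
    · exact (R.l3odd F hp hp2).equiv e
  · obtain ⟨F, _, _, h2, ⟨⟨e⟩⟩ | ⟨⟨e⟩⟩⟩ := h
    · exact (R.l4 F h2).equiv e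
    · exact (R.l5 F h2).equiv e
  · obtain ⟨F, _, _, q, hF, hq2, ⟨n, hn⟩ | hp, ⟨e⟩⟩ := h
    · have h2 : 2 ≤ n := by
        by_contra hcon
        have : n = 0 ∨ n = 1 := by omega
        rcases this with rfl | rfl
        · rw [pow_zero] at hn
          subst hn
          have := Fintype.one_lt_card (α := F)
          omega
        · exact hq2 (by rw [hn, pow_one])
      exact (R.u3even F q n h2 hn hF).equiv e
    · exact (R.u3odd F q hp hq2 hF).equiv e
  · obtain ⟨F, _, _, n, hn, hF, ⟨e⟩⟩ := h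
    exact (R.sp4 F n hn hF).equiv e
  · obtain ⟨F, _, _, n, hn, hF, ⟨e⟩⟩ := h
    exact (R.g2 F n hn hF).equiv e
  · obtain ⟨F, _, _, n, hn, hF, ⟨e⟩⟩ := h
    exact (R.d4 F n hn hF).equiv e
  · exact R.f4 K h
  · exact R.tits K h
  · exact R.sz K h
  · rcases h with h | h | h | h | h | h | h | h | h | h | h
    · exact R.m11 K h
    · exact R.m12 K h
    · exact R.m22 K h
    · exact R.m23 K h
    · exact R.m24 K h
    · exact R.j1 K h
    · exact R.j2 K h
    · exact R.j4 K h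
    · exact R.hs K h
    · exact R.he K h
    · exact R.ru K h

/-! ### The assembly -/

/-- **The inputs of `LeafEH3 QK`.** -/
structure Inputs : Prop where
  /-- THEOREM CL (helper291) -/
  cl : CL.{u}
  /-- landed: `Omega/Sec/Final.sec` (from the odd order theorem) -/
  sec : Quasithin.Sec.{u}
  /-- the table `SQK` -/
  table : SQK.Frame.Rows.{u}
  /-- the rows of EH3 -/
  rows : RowsW5.{u}
  /-- the rows of the case `F*(H) = ⟨d⟩ × L` -/
  rowsS : RowsS3.{u}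

variable {G : Type u} [Group G] [Finite G] {Q A : Subgroup G} {z a : G} {w : ℕ}

/-- `L / Z(L)` is in the list `SQK`. -/
theorem sqk (hsec : Quasithin.Sec.{u}) (R : SQK.Frame.Rows.{u}) (hG : QK G) (S : Sit Q A z a w)
    (L : Subgroup S.pair.H) (hLq : IsQuasisimple L) : SQK (L ⧸ center L) := by
  obtain ⟨hsimple, hna⟩ := simple_of_quasisimple hLq
  have hH : StrQ S.pair.H := strQ_H S.pair hG
  have := S.cfg.finite_H
  exact SQK.Frame.sqk_of_known R hsimple hna (S.known L (center L) hsimple hna)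
    (strQ_quot hsec hH L (center L) hsimple hna)

/-- The exit `J₄` (helper893, helper969). -/
theorem isoJ4 (S : Sit Q A z a w) (L : Subgroup S.pair.H) (hLn : L.Normal) (hLq : IsQuasisimple L)
    (hLo : Odd (Nat.card (center L))) (hX : S.X ⊓ centralizer (L : Set S.pair.H) = ⊥)
    (hi : Spor.IsoM22 (L ⧸ center L)) : Spor.IsoJ4 G := by
  have := S.ctx.simple
  obtain ⟨N, M, H⟩ := MTwentyTwo.Glue.hyp_of_cfg S.pair S.cfg hi L
    (oddCover_mk (commutator_eq_top hLq) hLo) hX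
  obtain ⟨f, hf⟩ := J4Type.Top.main H
  exact ⟨(MulEquiv.ofBijective f hf).symm⟩

theorem Inputs.rowG (I : Inputs.{u}) : RowG QK.{u} (fun X _ _ => IsKnownSimple' X) := by
  intro G _ _ hK Q A z a w S L hLn hLq hLo h4 _
  rcases out I.rows (sqk I.sec I.table hK S L hLq) with h | h
  · have h1 := isoJ4 S L hLn hLq hLo h4 h
    exact Or.inr (Or.inr (Or.inr (Or.inr (Or.inr (Or.inr (Or.inr (Or.inr (Or.inr (by
      unfold IsSporadicGroup
      tauto)))))))))
  · exact (h _ _ _ _ _ _ _ _ _ L _ hLn (oddCover_mk (commutator_eq_top hLq) hLo) h4 S.cfg).elim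

theorem tri_of {H V : Type u} [Group H] [AddCommGroup V] [Module (ZMod 2) V] {ρ : H →* (V ≃ₗ[ZMod 2] V)}
    {X L : Subgroup H} {d t : H} (T : STriple ρ X L d t) : Tri ρ X L d t where
  t_mem := T.t_mem
  t_ne := by
    rintro rfl
    have := T.t_sq
    rw [orderOf_one] at this
    omega
  d_ne := by
    rintro rfl
    have := T.d_ord
    rw [orderOf_one] at this
    omega
  d_three := by rw [← T.d_ord]; exact pow_orderOf_eq_one d
  inv := T.conj
  t_comm := fun l hl => (T.t_cent l hl).symm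
  d_comm := fun l hl => (T.d_cent l hl).symm
  fpf := T.d_fix

theorem Inputs.rowS (I : Inputs.{u}) : RowS QK.{u} := by
  intro G _ _ hK Q A z a w S L hLn hLq hLo ⟨d, t, T⟩
  exfalso
  have h3 : PRankLE 3 2 S.pair.H := strQ_H S.pair hK 3 Nat.prime_three (by norm_num)
  exact I.rowsS.out (sqk I.sec I.table hK S L hLq) _ _ _ _ _ _ _ _ _ L _ d t hLn
    (oddCover_mk (commutator_eq_top hLq) hLo) (tri_of T) h3 S.cfg

/-- **`LeafEH3` for the strongly quasithin groups.** -/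
theorem Inputs.leaf (I : Inputs.{u}) : FrameExtra.LeafEH3 QK.{u} :=
  leafEH3 I.cl I.rowG I.rowS

end Cfsg.Agent.Omega.W5.Main
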