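import Cfsg.Agent.Omega.W5.Dih
import Cfsg.Agent.S1349
import Cfsg.Prelude.Def_CaseTheorems

/-!
# OMEGA / W5 (2): an elementary abelian `2`-group acting faithfully on a normal subgroup of odd order (helper423)

`A` elementary abelian of order `2 ^ c`, faithful on the solvable subgroup `L` of odd order, `H` faithful on the
`F_2`-space `V`, `m_3(H) ≤ 2`: then `4 c ≤ dim V + 4`.
-/

set_option autoImplicit false

namespace Cfsg.Agent.Omega.W5.Odd

open Module Cfsg.Agent.Omega.W5.Dih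

/-- a commuting system of "dihedral pairs" `(b i, y i)`, `y i` of odd prime order -/
structure Pairs (H : Type*) [Group H] (c : ℕ) where
  b : Fin c → H
  y : Fin c → H
  p : Fin c → ℕ
  prime : ∀ i, (p i).Prime
  odd : ∀ i, Odd (p i)
  pow : ∀ i, y i ^ p i = 1
  ne : ∀ i, y i ≠ 1
  sq : ∀ i, b i * b i = 1
  inv : ∀ i, b i * y i * (b i)⁻¹ = (y i)⁻¹
  bb : ∀ i j, i ≠ j → Commute (b i) (b j)
  by' : ∀ i j, i ≠ j → Commute (b i) (y j)
  yy : ∀ i j, i ≠ j → Commute (y i) (y j)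

variable {H : Type*} [Group H]

theorem exists_pairs [Finite H] (L A : Subgroup H) (hLs : Group.IsSolvable ↥L) (hLodd : Odd (Nat.card ↥L))
    (hA : Cfsg.IsElementaryAbelian 2 A) (c : ℕ) (hc : 1 ≤ c) (hAc : Nat.card ↥A = 2 ^ c)
    (hAL : A ≤ Subgroup.normalizer (L : Set H)) (hfaith : A ⊓ Subgroup.centralizer (L : Set H) = ⊥) :
    ∃ P : Pairs H c, (∀ i, P.b i ∈ A ⊔ L) ∧ ∀ i, P.y i ∈ A ⊔ L := by
  classical
  obtain ⟨Ai, Li, n, h1, -, h3⟩ := Cfsg.Agent.S1349.result L A hLs hLodd hA c hc hAc hAL hfaith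
  choose hAi hAc2 hLi hodd hn he using h1
  have hp : ∀ i, (n i).minFac.Prime := fun i => Nat.minFac_prime (by have := hn i; omega)
  have hpo : ∀ i, Odd (n i).minFac := fun i => (hodd i).of_dvd_nat (Nat.minFac_dvd _)
  let e : ∀ i, ↥(Ai i ⊔ Li i) ≃* DihedralGroup (n i) := fun i => (he i).some
  let y0 : ∀ i, DihedralGroup (n i) := fun i => DihedralGroup.r ((n i / (n i).minFac : ℕ) : ZMod (n i))
  have hy0p : ∀ i, y0 i ^ (n i).minFac = 1 := by
    intro i
    simp only [y0, DihedralGroup.r_pow]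
    rw [← Nat.cast_mul, Nat.div_mul_cancel (Nat.minFac_dvd _), ZMod.natCast_self]
    rfl
  have hy0n : ∀ i, y0 i ≠ 1 := by
    intro i h
    have hpos : 0 < n i := by have := hn i; omega
    have h2 : ((n i / (n i).minFac : ℕ) : ZMod (n i)) = 0 := by
      have := h
      simp only [y0, DihedralGroup.one_def, DihedralGroup.r.injEq] at this
      exact this
    rw [ZMod.natCast_eq_zero_iff] at h2
    have h4 : 0 < n i / (n i).minFac := Nat.div_pos (Nat.minFac_le hpos) (hp i).pos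
    have h5 : n i / (n i).minFac < n i := Nat.div_lt_self hpos (hp i).one_lt
    exact absurd (Nat.le_of_dvd h4 h2) (by omega)
  let b0 : ∀ i, DihedralGroup (n i) := fun i => DihedralGroup.sr 0
  have hcoe : ∀ i (x : DihedralGroup (n i)), (((e i).symm x : ↥(Ai i ⊔ Li i)) : H) ∈ Ai i ⊔ Li i :=
    fun i x => ((e i).symm x).2
  have hmem : ∀ i (x : H), x ∈ Ai i ⊔ Li i → x ∈ A ⊔ L := fun i x hx => sup_le_sup (hAi i) (hLi i) hx
  refine ⟨{
    b := fun i => ((e i).symm (b0 i) : H)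
    y := fun i => ((e i).symm (y0 i) : H)
    p := fun i => (n i).minFac
    prime := hp
    odd := hpo
    pow := ?_
    ne := ?_
    sq := ?_
    inv := ?_
    bb := fun i j hij => h3 i j hij _ (hcoe i _) _ (hcoe j _)
    by' := fun i j hij => h3 i j hij _ (hcoe i _) _ (hcoe j _)
    yy := fun i j hij => h3 i j hij _ (hcoe i _) _ (hcoe j _) }, ?_, ?_⟩
  · intro i
    rw [← Subgroup.coe_pow, ← map_pow, hy0p, map_one, Subgroup.coe_one]
  · intro i h
    have h1 : (e i).symm (y0 i) = 1 := Subtype.ext h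
    rw [map_eq_one_iff _ (e i).symm.injective] at h1
    exact hy0n i h1
  · intro i
    rw [← Subgroup.coe_mul, ← map_mul]
    simp [b0]
  · intro i
    rw [← Subgroup.coe_mul, ← Subgroup.coe_inv, ← Subgroup.coe_mul, ← Subgroup.coe_inv, ← map_mul, ← map_inv,
      ← map_mul, ← map_inv]
    simp [b0, y0]
  · intro i; exact hmem i _ (hcoe i _)
  · intro i; exact hmem i _ (hcoe i _)

theorem zmod_two : ∀ a : ZMod 2, a = 0 ∨ a = 1 := by decide

namespace Pairs

variable {c : ℕ} (P : Pairs H c)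

/-- the weight: `1` for `p = 3`, otherwise `2` -/
def w (i : Fin c) : ℕ := if P.p i = 3 then 1 else 2

theorem b_y_pow (i : Fin c) (k : ℕ) : P.b i * P.y i ^ k * (P.b i)⁻¹ = ((P.y i) ^ k)⁻¹ := by
  rw [← conj_pow, P.inv, inv_pow]

/-- at most two `y i` have order `3` -/
theorem three_card [Finite H] (h3 : Cfsg.PRankLE 3 2 H) :
    (Finset.univ.filter fun i : Fin c => P.p i = 3).card ≤ 2 := by
  classical
  by_contra hcon
  push Not at hcon
  obtain ⟨i, j, k, hi, hj, hk, hij, hik, hjk⟩ := Finset.two_lt_card_iff.1 hcon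
  simp only [Finset.mem_filter, Finset.mem_univ, true_and] at hi hj hk
  set x := P.y i
  set y := P.y j
  set z := P.y k
  have hxy : Commute x y := P.yy i j hij
  have hxz : Commute x z := P.yy i k hik
  have hyz : Commute y z := P.yy j k hjk
  have hx3 : x ^ 3 = 1 := hi ▸ P.pow i
  have hy3 : y ^ 3 = 1 := hj ▸ P.pow j
  have hz3 : z ^ 3 = 1 := hk ▸ P.pow k
  set E : Subgroup H := Subgroup.closure {x, y, z} with hE
  have hcomm : ∀ a ∈ ({x, y, z} : Set H), ∀ b ∈ ({x, y, z} : Set H), a * b = b * a := by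
    rintro a (rfl | rfl | rfl) b (rfl | rfl | rfl)
    · rfl
    · exact hxy
    · exact hxz
    · exact hxy.symm
    · rfl
    · exact hyz
    · exact hxz.symm
    · exact hyz.symm
    · rfl
  have hEc : IsMulCommutative E := Subgroup.isMulCommutative_closure hcomm
  have hE3 : ∀ a ∈ E, a ^ 3 = 1 := by
    intro a ha
    induction ha using Subgroup.closure_induction with
    | mem a ha =>
      rcases ha with rfl | rfl | rfl
      · exact hx3
      · exact hy3
      · exact hz3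
    | one => simp
    | mul a b ha hb iha ihb =>
      have hab : Commute a b := by
        have := hEc.is_comm.comm (⟨a, ha⟩ : E) ⟨b, hb⟩
        exact congrArg Subtype.val this
      rw [hab.mul_pow, iha, ihb, one_mul]
    | inv a ha iha => rw [inv_pow, iha, inv_one]
  have hcard := h3 E hEc hE3
  have hxE : x ∈ E := Subgroup.subset_closure (by simp)
  have hyE : y ∈ E := Subgroup.subset_closure (by simp)
  have hzE : z ∈ E := Subgroup.subset_closure (by simp)
  let f : Fin 3 × Fin 3 × Fin 3 → E := fun t =>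
    ⟨x ^ (t.1 : ℕ) * y ^ (t.2.1 : ℕ) * z ^ (t.2.2 : ℕ),
      E.mul_mem (E.mul_mem (E.pow_mem hxE _) (E.pow_mem hyE _)) (E.pow_mem hzE _)⟩
  -- the exponent is recovered by conjugation with the involutions
  have key : ∀ (u : H) (m m' : ℕ), u ^ 3 = 1 → u ≠ 1 → m < 3 → m' < 3 → (u ^ m * u ^ m)⁻¹ = (u ^ m' * u ^ m')⁻¹ →
      m = m' := by
    intro u m m' hu3 hu1 hm hm' h
    have ho : orderOf u = 3 := orderOf_eq_prime hu3 hu1
    rw [inv_inj, ← pow_add, ← pow_add, pow_inj_mod, ho] at h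
    omega
  have rec1 : ∀ t : Fin 3 × Fin 3 × Fin 3, P.b i * (f t : H) * (P.b i)⁻¹ * (f t : H)⁻¹ =
      (x ^ (t.1 : ℕ) * x ^ (t.1 : ℕ))⁻¹ := by
    intro t
    have h1 : P.b i * x ^ (t.1 : ℕ) * (P.b i)⁻¹ = (x ^ (t.1 : ℕ))⁻¹ := P.b_y_pow i _
    have h2 : P.b i * y ^ (t.2.1 : ℕ) * (P.b i)⁻¹ = y ^ (t.2.1 : ℕ) :=
      mul_inv_eq_iff_eq_mul.2 ((P.by' i j hij).pow_right _)
    have h4 : P.b i * z ^ (t.2.2 : ℕ) * (P.b i)⁻¹ = z ^ (t.2.2 : ℕ) :=
      mul_inv_eq_iff_eq_mul.2 ((P.by' i k hik).pow_right _)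
    calc P.b i * (f t : H) * (P.b i)⁻¹ * (f t : H)⁻¹
        = (P.b i * x ^ (t.1 : ℕ) * (P.b i)⁻¹) * (P.b i * y ^ (t.2.1 : ℕ) * (P.b i)⁻¹) *
          (P.b i * z ^ (t.2.2 : ℕ) * (P.b i)⁻¹) * (x ^ (t.1 : ℕ) * y ^ (t.2.1 : ℕ) * z ^ (t.2.2 : ℕ))⁻¹ := by
          simp only [f]; group
      _ = (x ^ (t.1 : ℕ) * x ^ (t.1 : ℕ))⁻¹ := by rw [h1, h2, h4]; group
  have rec2 : ∀ t : Fin 3 × Fin 3 × Fin 3, P.b j * (f t : H) * (P.b j)⁻¹ * (f t : H)⁻¹ =
      (y ^ (t.2.1 : ℕ) * y ^ (t.2.1 : ℕ))⁻¹ := by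
    intro t
    have h1 : P.b j * x ^ (t.1 : ℕ) * (P.b j)⁻¹ = x ^ (t.1 : ℕ) :=
      mul_inv_eq_iff_eq_mul.2 ((P.by' j i hij.symm).pow_right _)
    have h2 : P.b j * y ^ (t.2.1 : ℕ) * (P.b j)⁻¹ = (y ^ (t.2.1 : ℕ))⁻¹ := P.b_y_pow j _
    have h4 : P.b j * z ^ (t.2.2 : ℕ) * (P.b j)⁻¹ = z ^ (t.2.2 : ℕ) :=
      mul_inv_eq_iff_eq_mul.2 ((P.by' j k hjk).pow_right _)
    have h5 : Commute (x ^ (t.1 : ℕ)) (y ^ (t.2.1 : ℕ)) := (hxy.pow_pow _ _)
    calc P.b j * (f t : H) * (P.b j)⁻¹ * (f t : H)⁻¹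
        = (P.b j * x ^ (t.1 : ℕ) * (P.b j)⁻¹) * (P.b j * y ^ (t.2.1 : ℕ) * (P.b j)⁻¹) *
          (P.b j * z ^ (t.2.2 : ℕ) * (P.b j)⁻¹) * (x ^ (t.1 : ℕ) * y ^ (t.2.1 : ℕ) * z ^ (t.2.2 : ℕ))⁻¹ := by
          simp only [f]; group
      _ = x ^ (t.1 : ℕ) * ((y ^ (t.2.1 : ℕ))⁻¹ * (y ^ (t.2.1 : ℕ))⁻¹) * (x ^ (t.1 : ℕ))⁻¹ := by
          rw [h1, h2, h4]; group
      _ = (y ^ (t.2.1 : ℕ) * y ^ (t.2.1 : ℕ))⁻¹ := by
          rw [((h5.inv_right).mul_right h5.inv_right).eq]; group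
  have rec3 : ∀ t : Fin 3 × Fin 3 × Fin 3, P.b k * (f t : H) * (P.b k)⁻¹ * (f t : H)⁻¹ =
      (z ^ (t.2.2 : ℕ) * z ^ (t.2.2 : ℕ))⁻¹ := by
    intro t
    have h1 : P.b k * x ^ (t.1 : ℕ) * (P.b k)⁻¹ = x ^ (t.1 : ℕ) :=
      mul_inv_eq_iff_eq_mul.2 ((P.by' k i hik.symm).pow_right _)
    have h2 : P.b k * y ^ (t.2.1 : ℕ) * (P.b k)⁻¹ = y ^ (t.2.1 : ℕ) :=
      mul_inv_eq_iff_eq_mul.2 ((P.by' k j hjk.symm).pow_right _)
    have h4 : P.b k * z ^ (t.2.2 : ℕ) * (P.b k)⁻¹ = (z ^ (t.2.2 : ℕ))⁻¹ := P.b_y_pow k _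
    have h5 : Commute (x ^ (t.1 : ℕ)) (z ^ (t.2.2 : ℕ)) := (hxz.pow_pow _ _)
    have h6 : Commute (y ^ (t.2.1 : ℕ)) (z ^ (t.2.2 : ℕ)) := (hyz.pow_pow _ _)
    have h7 : Commute (x ^ (t.1 : ℕ) * y ^ (t.2.1 : ℕ)) (z ^ (t.2.2 : ℕ)) := h5.mul_left h6
    calc P.b k * (f t : H) * (P.b k)⁻¹ * (f t : H)⁻¹
        = (P.b k * x ^ (t.1 : ℕ) * (P.b k)⁻¹) * (P.b k * y ^ (t.2.1 : ℕ) * (P.b k)⁻¹) *
          (P.b k * z ^ (t.2.2 : ℕ) * (P.b k)⁻¹) * (x ^ (t.1 : ℕ) * y ^ (t.2.1 : ℕ) * z ^ (t.2.2 : ℕ))⁻¹ := by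
          simp only [f]; group
      _ = (x ^ (t.1 : ℕ) * y ^ (t.2.1 : ℕ)) * ((z ^ (t.2.2 : ℕ))⁻¹ * (z ^ (t.2.2 : ℕ))⁻¹) *
          (x ^ (t.1 : ℕ) * y ^ (t.2.1 : ℕ))⁻¹ := by
          rw [h1, h2, h4]; group
      _ = (z ^ (t.2.2 : ℕ) * z ^ (t.2.2 : ℕ))⁻¹ := by
          rw [((h7.inv_right).mul_right h7.inv_right).eq]; group
  have hinj : Function.Injective f := by
    intro t t' htt
    have e1 := (rec1 t).symm.trans (by rw [htt, rec1 t'])
    have e2 := (rec2 t).symm.trans (by rw [htt, rec2 t'])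
    have e3 := (rec3 t).symm.trans (by rw [htt, rec3 t'])
    have k1 := key x _ _ hx3 (P.ne i) t.1.2 t'.1.2 e1
    have k2 := key y _ _ hy3 (P.ne j) t.2.1.2 t'.2.1.2 e2
    have k3 := key z _ _ hz3 (P.ne k) t.2.2.2 t'.2.2.2 e3
    exact Prod.ext (Fin.ext k1) (Prod.ext (Fin.ext k2) (Fin.ext k3))
  have h27 := Nat.card_le_card_of_injective f hinj
  simp at h27
  omega

theorem sum_w [Finite H] (h3 : Cfsg.PRankLE 3 2 H) : 2 * c ≤ ∑ i, P.w i + 2 := by
  classical
  have h1 := P.three_card h3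
  have h2 : ∑ i : Fin c, P.w i + (Finset.univ.filter fun i : Fin c => P.p i = 3).card = 2 * c := by
    rw [Finset.card_filter, ← Finset.sum_add_distrib]
    have : ∀ i : Fin c, P.w i + (if P.p i = 3 then 1 else 0) = 2 := by
      intro i
      unfold w
      split_ifs <;> rfl
    rw [Finset.sum_congr rfl (fun i _ => this i)]
    simp [mul_comm]
  omega

variable {V : Type*} [AddCommGroup V] [Module (ZMod 2) V]

/-- the `Dih.Data` of a system of pairs and a representation -/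
def data (ρ : H →* (V ≃ₗ[ZMod 2] V)) (Λ : Set H) (hb : ∀ g ∈ Λ, ∀ i, Commute g (P.b i))
    (hy : ∀ g ∈ Λ, ∀ i, Commute g (P.y i)) : Data (ZMod 2) V (Fin c) where
  b := fun i => ρ (P.b i)
  y := fun i => ρ (P.y i)
  Λ := ρ '' Λ
  n := P.p
  odd := P.odd
  pow := fun i => by rw [← map_pow, P.pow, map_one]
  sq := fun i => by rw [← map_mul, P.sq, map_one]
  inv := fun i => by rw [← map_inv, ← map_mul, ← map_mul, P.inv, map_inv]
  bb := fun i j h => (P.bb i j h).map ρ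
  by' := fun i j h => (P.by' i j h).map ρ
  yy := fun i j h => (P.yy i j h).map ρ
  lb := by rintro _ ⟨g, hg, rfl⟩ i; exact (hb g hg i).map ρ
  ly := by rintro _ ⟨g, hg, rfl⟩ i; exact (hy g hg i).map ρ

/-- over `Λ = ∅` every `y i` of order `≠ 3` costs `4` dimensions -/
theorem dim_ge [FiniteDimensional (ZMod 2) V] (ρ : H →* (V ≃ₗ[ZMod 2] V)) (hρ : Function.Injective ρ) :
    2 * ∑ i, P.w i ≤ finrank (ZMod 2) V := by
  classical
  have : Fact (Nat.Prime 2) := ⟨Nat.prime_two⟩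
  set D := P.data ρ ∅ (by simp) (by simp) with hD
  have hΛ : D.Λ = ∅ := by simp [hD, data]
  have hδ : ∀ U : Submodule (ZMod 2) V, U ≠ ⊥ → (∀ g ∈ D.Λ, Inv g U) → 1 ≤ finrank (ZMod 2) U := by
    intro U hU _
    rw [Nat.one_le_iff_ne_zero]
    intro h
    exact hU (Submodule.finrank_eq_zero.1 h)
  have h1 := D.core P.w (by
    intro i U hU hΛ' hb hy hf
    by_cases hp : P.p i = 3
    · have := D.two_le hδ hU hΛ' hb hy hf
      simp only [w, hp, if_true]
      exact this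
    · have h4 : 2 * (2 * 1) ≤ finrank (ZMod 2) U := by
        refine D.four_le hδ ?_ hU hΛ' hb hy hf ?_
        · intro M hM hMΛ hmin f hf _
          obtain ⟨v, hv, hv0⟩ := Submodule.exists_mem_ne_zero_of_ne_bot hM
          have h5 : Submodule.span (ZMod 2) {v} = M := by
            rcases hmin (Submodule.span (ZMod 2) {v}) (by rwa [Submodule.span_singleton_le_iff_mem])
              (by rw [hΛ]; simp) with h | h
            · exact absurd (Submodule.span_singleton_eq_bot.1 h) hv0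
            · exact h
          have h6 : ∀ m ∈ M, m = 0 ∨ m = v := by
            intro m hm
            rw [← h5, Submodule.mem_span_singleton] at hm
            obtain ⟨a, rfl⟩ := hm
            have : a = 0 ∨ a = 1 := zmod_two a
            rcases this with rfl | rfl
            · left; simp
            · right; simp
          rcases h6 (f v) (hf v hv) with h | h
          · left
            intro m hm
            rcases h6 m hm with rfl | rfl
            · simp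
            · exact h
          · right
            intro m hm
            rcases h6 m hm with rfl | rfl
            · simp
            · exact h
        · intro u hu h
          apply hf u hu
          -- y ^ 3 fixes u and y ^ p fixes u
          have hcop : Nat.Coprime (P.p i) 3 := by
            rw [Nat.coprime_primes (P.prime i) Nat.prime_three]; exact hp
          have e3 : (D.y i ^ 3) u = u := by
            rw [pow_succ, pow_two]; exact h
          have ep : (D.y i ^ P.p i) u = u := by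
            have : D.y i ^ P.p i = 1 := D.pow i
            rw [this]; rfl
          have key : ∀ (g : V ≃ₗ[ZMod 2] V) (k : ℕ), g u = u → (g ^ k) u = u := by
            intro g k hg
            induction k with
            | zero => simp
            | succ k ih => rw [pow_succ]; change (g ^ k) (g u) = u; rw [hg, ih]
          have hinv : ∀ (g : V ≃ₗ[ZMod 2] V), g u = u → g⁻¹ u = u := by
            intro g hg
            have : g⁻¹ (g u) = u := by change (g⁻¹ * g) u = u; rw [inv_mul_cancel]; rfl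
            rwa [hg] at this
          have hz : ∀ (g : V ≃ₗ[ZMod 2] V) (k : ℤ), g u = u → (g ^ k) u = u := by
            intro g k hg
            obtain ⟨m, rfl | rfl⟩ := k.eq_nat_or_neg
            · rw [zpow_natCast]; exact key g m hg
            · rw [zpow_neg, zpow_natCast]; exact hinv _ (key g m hg)
          have hbez := Nat.gcd_eq_gcd_ab (P.p i) 3
          rw [Nat.coprime_iff_gcd_eq_one.1 hcop] at hbez
          have : D.y i = (D.y i ^ P.p i) ^ (Nat.gcdA (P.p i) 3) * (D.y i ^ 3) ^ (Nat.gcdB (P.p i) 3) := by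
            rw [← zpow_natCast, ← zpow_natCast, ← zpow_mul, ← zpow_mul, ← zpow_add]
            have h9 : ((P.p i : ℕ) : ℤ) * Nat.gcdA (P.p i) 3 + ((3 : ℕ) : ℤ) * Nat.gcdB (P.p i) 3 = 1 := by
              exact_mod_cast hbez.symm
            rw [h9, zpow_one]
          rw [this]
          change ((D.y i ^ P.p i) ^ (Nat.gcdA (P.p i) 3)) (((D.y i ^ 3) ^ (Nat.gcdB (P.p i) 3)) u) = u
          rw [hz _ _ e3, hz _ _ ep]
      simp only [w, hp, if_false]
      omega) (Fintype.card (Fin c)) Finset.univ le_rfl ⊤ (by intro g hg u _; trivial)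
      (by intro i _; exact ⟨fun u _ => trivial, fun u _ => trivial⟩)
      (by
        intro i _
        by_contra hcon
        push Not at hcon
        apply P.ne i
        apply hρ
        rw [map_one]
        ext u
        exact hcon u trivial)
  rwa [finrank_top] at h1

end Pairs

/-- **W5 (2)** -/
theorem main [Finite H] {V : Type*} [AddCommGroup V] [Module (ZMod 2) V] [FiniteDimensional (ZMod 2) V]
    (ρ : H →* (V ≃ₗ[ZMod 2] V)) (hρ : Function.Injective ρ) (L A : Subgroup H) (hLs : Group.IsSolvable ↥L)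
    (hLodd : Odd (Nat.card ↥L)) (hA : Cfsg.IsElementaryAbelian 2 A) (c : ℕ) (hc : 1 ≤ c)
    (hAc : Nat.card ↥A = 2 ^ c) (hAL : A ≤ Subgroup.normalizer (L : Set H))
    (hfaith : A ⊓ Subgroup.centralizer (L : Set H) = ⊥) (h3 : Cfsg.PRankLE 3 2 H) :
    4 * c ≤ finrank (ZMod 2) V + 4 := by
  obtain ⟨P, -, -⟩ := exists_pairs L A hLs hLodd hA c hc hAc hAL hfaith
  have h1 := P.dim_ge ρ hρ
  have h2 := P.sum_w h3
  omega

end Cfsg.Agent.Omega.W5.Odd
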