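import Mathlib

/-!
# OMEGA / EH3, W5: the POINT LEMMA (M2) of #12370 (helper947), typed by helper539

`V` a finite `F₂`-space, `L ≤ GL(V)`, `T ≤ L` a `2`-group with `C_V(T) = ⟨e⟩`, transitive on the points `≠ e` of
the orbit `e^L`; `A ≤ GL(V)` elementary abelian, `C_V(A) = ⟨e⟩`, permuting `e^L`.  Then the points `≠ e` of `e^L` are
linearly independent with sum `e`, `A` is transitive on them (`trans_A`), their number is at most `4` if
`[⟨e^L⟩, A, A, A] = 0` (`card_le_four`), at most `8` if `[⟨e^L⟩, A, A, A, A] = 0`; so `|L : L_e| = 3` or `5`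
(`index_eq`).  With an invariant nondegenerate form `b`, `[e^⊥, A, A, A] = 0`, `[V, A, A, A, A] = 0` and
`|V| ≠ 2 ^ 8` the same conclusion holds (`index_eq_of_form`).
-/

set_option autoImplicit false

namespace Cfsg.Agent.Omega.W5.Point

variable {V : Type*} [AddCommGroup V] [Module (ZMod 2) V]

theorem self (v : V) : v + v = 0 := by
  have h : (2 : ZMod 2) • v = v + v := two_smul _ v
  rw [← h, show (2 : ZMod 2) = 0 from rfl, zero_smul]

theorem eq_of_add {u v : V} (h : u + v = 0) : u = v := by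
  calc u = u + (v + v) := by rw [self, add_zero]
    _ = (u + v) + v := by abel
    _ = v := by rw [h, zero_add]

/-- the hypotheses of the point lemma -/
structure Pt (L T A : Subgroup (V ≃ₗ[ZMod 2] V)) (e : V) : Prop where
  ne : e ≠ 0
  T_le : T ≤ L
  two : IsPGroup 2 T
  T_e : ∀ t ∈ T, t e = e
  T_fix : ∀ v, (∀ t ∈ T, t v = v) → v = 0 ∨ v = e
  trans : ∀ l ∈ L, ∀ m ∈ L, l e ≠ e → m e ≠ e → ∃ t ∈ T, t (l e) = m e
  move : ∃ l ∈ L, l e ≠ e
  A_inv : ∀ a ∈ A, ∀ l ∈ L, ∃ m ∈ L, a (l e) = m e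
  A_e : ∀ a ∈ A, a e = e
  A_fix : ∀ v, (∀ a ∈ A, a v = v) → v = 0 ∨ v = e
  A_sq : ∀ a ∈ A, a * a = 1
  A_comm : ∀ a ∈ A, ∀ c ∈ A, a * c = c * a

/-- the points `≠ e` of the orbit of `e` -/
def Dl (L : Subgroup (V ≃ₗ[ZMod 2] V)) (e : V) : Set V := {v | v ≠ e ∧ ∃ l ∈ L, l e = v}

variable {L T A : Subgroup (V ≃ₗ[ZMod 2] V)} {e : V}

theorem map_mem_Dl_iff {l : V ≃ₗ[ZMod 2] V} (hl : l ∈ L) (he : l e = e) {v : V} :
    l v ∈ Dl L e ↔ v ∈ Dl L e := by
  have key : ∀ l ∈ L, l e = e → ∀ v ∈ Dl L e, l v ∈ Dl L e := by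
    rintro l hl he v ⟨hv, m, hm, rfl⟩
    refine ⟨fun h => hv (l.injective (h.trans he.symm)), l * m, L.mul_mem hl hm, rfl⟩
  constructor
  · intro h
    have h1 := key l⁻¹ (L.inv_mem hl) (by
      have := l.symm_apply_apply e
      rw [he] at this
      exact this) _ h
    have h2 : l⁻¹ (l v) = v := l.symm_apply_apply v
    rwa [h2] at h1
  · exact key l hl he v

section
variable [Fintype V] [DecidableEq V]

open Classical in
/-- the points `≠ e` as a finset -/
noncomputable def Df (L : Subgroup (V ≃ₗ[ZMod 2] V)) (e : V) : Finset V :=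
  Finset.univ.filter fun v => v ∈ Dl L e

omit [DecidableEq V] in
theorem mem_Df {v : V} : v ∈ Df L e ↔ v ∈ Dl L e := by
  unfold Df; simp

/-- `∑ (points ≠ e) = e` -/
theorem Pt.sum_eq (h : Pt L T A e) : ∑ v ∈ Df L e, v = e := by
  have hfix : ∀ t ∈ T, t (∑ v ∈ Df L e, v) = ∑ v ∈ Df L e, v := by
    intro t ht
    rw [map_sum]
    refine Finset.sum_nbij' (fun v => t v) (fun v => t⁻¹ v) ?_ ?_ ?_ ?_ ?_
    · intro v hv
      rw [mem_Df] at hv ⊢
      exact (map_mem_Dl_iff (h.T_le ht) (h.T_e t ht)).2 hv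
    · intro v hv
      rw [mem_Df] at hv ⊢
      exact (map_mem_Dl_iff (h.T_le (T.inv_mem ht)) (h.T_e _ (T.inv_mem ht))).2 hv
    · intro v _; exact t.symm_apply_apply v
    · intro v _; exact t.apply_symm_apply v
    · intro v _; rfl
  rcases h.T_fix _ hfix with h0 | h0
  swap
  · exact h0
  exfalso
  -- all points are equal
  have hall : ∀ l ∈ L, l e = e := by
    intro l hl
    -- `∑_{all} = e` is `L`-invariant
    have hsum : ∑ v ∈ insert e (Df L e), v = e := by
      rw [Finset.sum_insert (by rw [mem_Df]; exact fun h => h.1 rfl), h0, add_zero]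
    have hl2 : l (∑ v ∈ insert e (Df L e), v) = ∑ v ∈ insert e (Df L e), v := by
      have hins : ∀ v, v ∈ insert e (Df L e) ↔ ∃ l ∈ L, l e = v := by
        intro v
        rw [Finset.mem_insert, mem_Df]
        constructor
        · rintro (rfl | hv)
          · exact ⟨1, L.one_mem, rfl⟩
          · exact hv.2
        · intro hv
          by_cases hve : v = e
          · exact Or.inl hve
          · exact Or.inr ⟨hve, hv⟩
      rw [map_sum]
      refine Finset.sum_nbij' (fun v => l v) (fun v => l⁻¹ v) ?_ ?_ ?_ ?_ ?_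
      · intro v hv
        rw [hins] at hv ⊢
        obtain ⟨m, hm, rfl⟩ := hv
        exact ⟨l * m, L.mul_mem hl hm, rfl⟩
      · intro v hv
        rw [hins] at hv ⊢
        obtain ⟨m, hm, rfl⟩ := hv
        exact ⟨l⁻¹ * m, L.mul_mem (L.inv_mem hl) hm, rfl⟩
      · intro v _; exact l.symm_apply_apply v
      · intro v _; exact l.apply_symm_apply v
      · intro v _; rfl
    rw [hsum] at hl2
    exact hl2
  obtain ⟨l, hl, hle⟩ := h.move
  exact hle (hall l hl)

/-- functions supported on the points `≠ e` with vanishing linear combination -/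
def Ker (L : Subgroup (V ≃ₗ[ZMod 2] V)) (e : V) : AddSubgroup (V → ZMod 2) where
  carrier := {c | (∀ v, v ∉ Dl L e → c v = 0) ∧ ∑ v, c v • v = 0}
  zero_mem' := ⟨fun _ _ => rfl, by simp⟩
  add_mem' := by
    rintro c d ⟨hc, hc'⟩ ⟨hd, hd'⟩
    refine ⟨fun v hv => by rw [Pi.add_apply, hc v hv, hd v hv, add_zero], ?_⟩
    simp only [Pi.add_apply, add_smul, Finset.sum_add_distrib, hc', hd', add_zero]
  neg_mem' := by
    rintro c ⟨hc, hc'⟩
    refine ⟨fun v hv => by rw [Pi.neg_apply, hc v hv, neg_zero], ?_⟩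
    simp only [Pi.neg_apply, neg_smul, Finset.sum_neg_distrib, hc', neg_zero]

/-- the points `≠ e` are linearly independent -/
theorem Pt.ker_eq_bot (h : Pt L T A e) : Ker L e = ⊥ := by
  classical
  by_contra hne
  -- action of `T` on the kernel
  let act : MulAction ↥T ↥(Ker L e) :=
    { smul := fun t c => ⟨fun v => c.1 ((t : V ≃ₗ[ZMod 2] V)⁻¹ v), by
        refine ⟨fun v hv => c.2.1 _ ?_, ?_⟩
        · rwa [map_mem_Dl_iff (L.inv_mem (h.T_le t.2)) (h.T_e _ (T.inv_mem t.2))]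
        · have h1 : ∑ v, c.1 ((t : V ≃ₗ[ZMod 2] V)⁻¹ v) • v =
              (t : V ≃ₗ[ZMod 2] V) (∑ v, c.1 v • v) := by
            rw [map_sum]
            refine Finset.sum_nbij' (fun v => (t : V ≃ₗ[ZMod 2] V)⁻¹ v)
              (fun v => (t : V ≃ₗ[ZMod 2] V) v) ?_ ?_ ?_ ?_ ?_
            · intro v _; exact Finset.mem_univ _
            · intro v _; exact Finset.mem_univ _
            · intro v _; exact (t : V ≃ₗ[ZMod 2] V).apply_symm_apply v
            · intro v _; exact (t : V ≃ₗ[ZMod 2] V).symm_apply_apply v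
            · intro v _
              rw [map_smul]
              congr 1
              exact ((t : V ≃ₗ[ZMod 2] V).apply_symm_apply v).symm
          rw [h1, c.2.2, map_zero]⟩
      one_smul := fun c => by
        apply Subtype.ext; rfl
      mul_smul := fun s t c => by
        apply Subtype.ext
        funext v
        show c.1 ((((s * t : ↥T) : V ≃ₗ[ZMod 2] V))⁻¹ v) =
          c.1 ((t : V ≃ₗ[ZMod 2] V)⁻¹ ((s : V ≃ₗ[ZMod 2] V)⁻¹ v))
        congr 1 }
  have hdvd : 2 ∣ Nat.card ↥(Ker L e) := by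
    obtain ⟨c, hc, hc0⟩ := (Ker L e).bot_or_exists_ne_zero.resolve_left hne
    have h1 : addOrderOf (⟨c, hc⟩ : ↥(Ker L e)) = 2 := by
      apply addOrderOf_eq_prime
      · apply Subtype.ext
        show (2 • c : V → ZMod 2) = 0
        rw [two_smul]
        funext v
        show c v + c v = 0
        rw [← two_mul, show (2 : ZMod 2) = 0 from rfl, zero_mul]
      · intro h2
        exact hc0 (congrArg Subtype.val h2)
    have h2 := addOrderOf_dvd_natCard (⟨c, hc⟩ : ↥(Ker L e))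
    rwa [h1] at h2
  obtain ⟨c, hc, hc0⟩ := h.two.exists_fixed_point_of_prime_dvd_card_of_fixed_point
    ↥(Ker L e) hdvd (a := (0 : ↥(Ker L e))) (by
      intro t
      apply Subtype.ext
      rfl)
  -- `c` is constant on the points
  have hconst : ∀ t ∈ T, ∀ v, c.1 (t v) = c.1 v := by
    intro t ht v
    have h1 := hc ⟨t⁻¹, T.inv_mem ht⟩
    have h2 := congrFun (congrArg Subtype.val h1) v
    have h3 : c.1 ((t⁻¹ : V ≃ₗ[ZMod 2] V)⁻¹ v) = c.1 v := h2
    rw [inv_inv] at h3
    exact h3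
  -- some value is `1`
  have hex : ∃ v, c.1 v = 1 := by
    by_contra hcon
    push Not at hcon
    apply hc0
    apply Subtype.ext
    funext v
    have : ∀ x : ZMod 2, x ≠ 1 → (0 : ZMod 2) = x := by decide
    exact this _ (hcon v)
  obtain ⟨v0, hv0⟩ := hex
  have hv0D : v0 ∈ Dl L e := by
    by_contra hcon
    rw [c.2.1 v0 hcon] at hv0
    exact absurd hv0 (by decide)
  have hone : ∀ v ∈ Dl L e, c.1 v = 1 := by
    intro v hv
    obtain ⟨hv0e, l, hl, hlv⟩ := hv0D
    obtain ⟨hve, m, hm, hmv⟩ := hv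
    obtain ⟨t, ht, htv⟩ := h.trans l hl m hm (by rw [hlv]; exact hv0e) (by rw [hmv]; exact hve)
    rw [← hmv, ← htv, hconst t ht, hlv]
    exact hv0
  have hs : ∑ v, c.1 v • v = ∑ v ∈ Df L e, v := by
    rw [← Finset.sum_subset (Finset.subset_univ (Df L e))]
    · refine Finset.sum_congr rfl fun v hv => ?_
      rw [mem_Df] at hv
      rw [hone v hv, one_smul]
    · intro v _ hv
      rw [mem_Df] at hv
      rw [c.2.1 v hv, zero_smul]
  rw [h.sum_eq, c.2.2] at hs
  exact h.ne hs.symm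

/-- a nonempty set of points `≠ e` has nonzero sum -/
theorem Pt.sum_ne_zero (h : Pt L T A e) {s : Finset V} (hs : ∀ v ∈ s, v ∈ Dl L e)
    (hne : s.Nonempty) : ∑ v ∈ s, v ≠ 0 := by
  intro h0
  have hmem : (fun v => if v ∈ s then (1 : ZMod 2) else 0) ∈ Ker L e := by
    refine ⟨?_, ?_⟩
    · intro v hv
      have : v ∉ s := fun h => hv (hs v h)
      simp [this]
    · have : ∑ v, (if v ∈ s then (1 : ZMod 2) else 0) • v = ∑ v ∈ s, v := by
        simp only [ite_smul, one_smul, zero_smul]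
        rw [Finset.sum_ite_mem, Finset.univ_inter]
      rw [this, h0]
  rw [h.ker_eq_bot, AddSubgroup.mem_bot] at hmem
  obtain ⟨v, hv⟩ := hne
  have := congrFun hmem v
  simp [hv] at this

end

theorem Pt.A_mem (h : Pt L T A e) {a : V ≃ₗ[ZMod 2] V} (ha : a ∈ A) {v : V} (hv : v ∈ Dl L e) :
    a v ∈ Dl L e := by
  obtain ⟨hve, l, hl, rfl⟩ := hv
  obtain ⟨m, hm, hml⟩ := h.A_inv a ha l hl
  refine ⟨fun h1 => hve (a.injective (h1.trans (h.A_e a ha).symm)), m, hm, hml.symm⟩

/-- `A` is transitive on the points `≠ e` -/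
theorem Pt.trans_A [Finite V] (h : Pt L T A e) {v w : V} (hv : v ∈ Dl L e) (hw : w ∈ Dl L e) :
    ∃ a ∈ A, a v = w := by
  classical
  have := Fintype.ofFinite V
  let O : Finset V := Finset.univ.filter fun u => ∃ a ∈ A, a v = u
  have hO : ∀ u, u ∈ O ↔ ∃ a ∈ A, a v = u := by intro u; simp [O]
  have hOD : ∀ u ∈ O, u ∈ Dl L e := by
    intro u hu
    obtain ⟨a, ha, rfl⟩ := (hO u).1 hu
    exact h.A_mem ha hv
  have hvO : v ∈ O := (hO v).2 ⟨1, A.one_mem, rfl⟩
  have h1 : ∑ u ∈ O, u = e := by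
    refine (h.A_fix _ ?_).resolve_left (h.sum_ne_zero hOD ⟨v, hvO⟩)
    intro a ha
    rw [map_sum]
    refine Finset.sum_nbij' (fun v => a v) (fun v => a⁻¹ v) ?_ ?_ ?_ ?_ ?_
    · intro u hu
      obtain ⟨c, hc, rfl⟩ := (hO u).1 hu
      exact (hO _).2 ⟨a * c, A.mul_mem ha hc, rfl⟩
    · intro u hu
      obtain ⟨c, hc, rfl⟩ := (hO u).1 hu
      exact (hO _).2 ⟨a⁻¹ * c, A.mul_mem (A.inv_mem ha) hc, rfl⟩
    · intro v _; exact a.symm_apply_apply v
    · intro v _; exact a.apply_symm_apply v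
    · intro v _; rfl
  by_contra hcon
  have hwO : w ∉ O := by rw [hO]; exact hcon
  have hsub : O ⊆ Df L e := fun u hu => mem_Df.2 (hOD u hu)
  have h2 : ∑ u ∈ Df L e \ O, u + ∑ u ∈ O, u = ∑ u ∈ Df L e, u := Finset.sum_sdiff hsub
  rw [h1, h.sum_eq] at h2
  have h3 : ∑ u ∈ Df L e \ O, u = 0 := by
    have := congrArg (· + e) h2
    simp only [add_assoc, self, add_zero] at this
    exact this
  exact h.sum_ne_zero (s := Df L e \ O)
    (fun u hu => mem_Df.1 (Finset.mem_sdiff.1 hu).1)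
    ⟨w, Finset.mem_sdiff.2 ⟨mem_Df.2 hw, hwO⟩⟩ h3

/-- every set of at most `n` points of `Dl` misses a point if `n <` the number of points -/
theorem exists_notMem [Finite V] {n : ℕ} (hn : n < Nat.card ↥(Dl L e)) (s : Finset V)
    (hs : s.card ≤ n) : ∃ v ∈ Dl L e, v ∉ s := by
  classical
  have := Fintype.ofFinite V
  by_contra hcon
  push Not at hcon
  have h1 : Df L e ⊆ s := fun v hv => hcon v (mem_Df.1 hv)
  have h2 : Nat.card ↥(Dl L e) = (Df L e).card := by
    rw [Nat.card_coe_set_eq, ← Set.ncard_coe_finset]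
    congr 1
    ext v
    exact mem_Df.symm
  have := Finset.card_le_card h1
  omega

/-- the points stabilised by one point are all stabilised -/
theorem Pt.fix_all [Finite V] (h : Pt L T A e) {a : V ≃ₗ[ZMod 2] V} (ha : a ∈ A) {v : V}
    (hv : v ∈ Dl L e) (hav : a v = v) {w : V} (hw : w ∈ Dl L e) : a w = w := by
  obtain ⟨c, hc, rfl⟩ := h.trans_A hv hw
  have h1 : a (c v) = c (a v) := congrArg (fun g : V ≃ₗ[ZMod 2] V => g v) (h.A_comm a ha c hc)
  rw [h1, hav]

/-- `[v, A, .., A] = 0` (`n` times) -/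
def Kill (A : Subgroup (V ≃ₗ[ZMod 2] V)) : ℕ → V → Prop
  | 0, v => v = 0
  | n + 1, v => ∀ a ∈ A, Kill A n (a v + v)

theorem Pt.exists_cube [Finite V] (h : Pt L T A e) {v : V} (hv : v ∈ Dl L e) :
    ∀ i : ℕ, (∀ j < i, 2 ^ j < Nat.card ↥(Dl L e)) → ∃ s : Finset V, v ∈ s ∧
      (∀ u ∈ s, u ∈ Dl L e) ∧ s.card = 2 ^ i ∧
      (∀ a ∈ A, ∀ u ∈ s, a u ∈ s → ∀ x ∈ s, a x ∈ s) ∧
      ∀ m, Kill A (i + m) v → Kill A m (∑ u ∈ s, u) := by
  classical
  intro i
  induction i with
  | zero =>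
    intro _
    refine ⟨{v}, by simp, by simpa using hv, by simp, ?_, ?_⟩
    · intro a _ u hu hau x hx
      rw [Finset.mem_singleton] at hu hx hau ⊢
      subst hu; subst hx; exact hau
    · intro m hm
      rw [Finset.sum_singleton]
      rwa [zero_add] at hm
  | succ i ih =>
    intro hi
    obtain ⟨s, hvs, hsD, hcard, hcl, hkill⟩ := ih fun j hj => hi j (hj.trans i.lt_succ_self)
    obtain ⟨w, hwD, hws⟩ := exists_notMem (hi i i.lt_succ_self) s hcard.le
    obtain ⟨a, ha, rfl⟩ := h.trans_A hv hwD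
    have aa : ∀ x, a (a x) = x := fun x => congrArg (fun g : V ≃ₗ[ZMod 2] V => g x) (h.A_sq a ha)
    have hdis : ∀ u ∈ s, a u ∉ s := fun u hu hau => hws (hcl a ha u hu hau v hvs)
    let s' : Finset V := s ∪ s.image a
    have hmem : ∀ u, u ∈ s' ↔ u ∈ s ∨ a u ∈ s := by
      intro u
      simp only [s', Finset.mem_union, Finset.mem_image]
      constructor
      · rintro (hu | ⟨x, hx, rfl⟩)
        · exact Or.inl hu
        · exact Or.inr (by rw [aa]; exact hx)
      · rintro (hu | hu)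
        · exact Or.inl hu
        · exact Or.inr ⟨a u, hu, aa u⟩
    have hdj : Disjoint s (s.image a) := by
      rw [Finset.disjoint_left]
      intro u hu hu'
      obtain ⟨x, hx, rfl⟩ := Finset.mem_image.1 hu'
      exact hdis x hx hu
    refine ⟨s', (hmem v).2 (Or.inl hvs), ?_, ?_, ?_, ?_⟩
    · intro u hu
      rcases (hmem u).1 hu with h1 | h1
      · exact hsD u h1
      · have := h.A_mem ha (hsD _ h1)
        rwa [aa] at this
    · rw [Finset.card_union_of_disjoint hdj, Finset.card_image_of_injective _ a.injective, hcard,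
        pow_succ]
      ring
    · -- closure
      intro c hc u hu hcu x hx
      have ac : ∀ x, a (c x) = c (a x) := fun x =>
        congrArg (fun g : V ≃ₗ[ZMod 2] V => g x) (h.A_comm a ha c hc)
      -- it is enough that `c` or `a c` preserves `s`
      have key : (∀ y ∈ s, c y ∈ s) ∨ (∀ y ∈ s, a (c y) ∈ s) := by
        have hcl2 : ∀ y ∈ s, a (c y) ∈ s → ∀ z ∈ s, a (c z) ∈ s := fun y hy hy' z hz =>
          hcl (a * c) (A.mul_mem ha hc) y hy hy' z hz
        rcases (hmem u).1 hu with h1 | h1 <;> rcases (hmem _).1 hcu with h2 | h2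
        · exact Or.inl (hcl c hc u h1 h2)
        · exact Or.inr (hcl2 u h1 h2)
        · refine Or.inr (hcl2 _ h1 ?_)
          rw [ac, aa]; exact h2
        · refine Or.inl (hcl c hc _ h1 ?_)
          rw [← ac]; exact h2
      rw [hmem]
      rcases (hmem x).1 hx with h1 | h1 <;> rcases key with h2 | h2
      · exact Or.inl (h2 x h1)
      · exact Or.inr (h2 x h1)
      · right; rw [ac]; exact h2 _ h1
      · left
        have := h2 _ h1
        rwa [ac, aa] at this
    · intro m hm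
      have h1 : Kill A (m + 1) (∑ u ∈ s, u) := hkill (m + 1) (by
        have e1 : i + (m + 1) = i + 1 + m := by ring
        rw [e1]; exact hm)
      have h2 : ∑ u ∈ s', u = a (∑ u ∈ s, u) + ∑ u ∈ s, u := by
        rw [Finset.sum_union hdj, Finset.sum_image (fun x _ y _ hxy => a.injective hxy), map_sum,
          add_comm]
      rw [h2]
      exact h1 a ha

/-- `[v, A, .., A] = 0` (`n + 1` times) for one point bounds the number of points by `2 ^ n` -/
theorem Pt.card_le [Finite V] (h : Pt L T A e) {v : V} (hv : v ∈ Dl L e) {n : ℕ}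
    (hk : Kill A (n + 1) v) : Nat.card ↥(Dl L e) ≤ 2 ^ n := by
  classical
  by_contra hcon
  push Not at hcon
  have := Fintype.ofFinite V
  obtain ⟨s, hvs, hsD, -, -, hkill⟩ := h.exists_cube hv (n + 1) (fun j hj =>
    lt_of_le_of_lt (Nat.pow_le_pow_right (by norm_num) (Nat.lt_succ_iff.1 hj)) hcon)
  have h1 : Kill A 0 (∑ u ∈ s, u) := hkill 0 hk
  exact h.sum_ne_zero hsD ⟨v, hvs⟩ h1

/-- the number of points `≠ e` is a power of `2`, at least `2` -/
theorem Pt.card_pow [Finite V] (h : Pt L T A e) : ∃ m, 1 ≤ m ∧ Nat.card ↥(Dl L e) = 2 ^ m := by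
  obtain ⟨l, hl, hle⟩ := h.move
  have h1 : MulAction.orbit ↥T (l e) = Dl L e := by
    ext v
    constructor
    · rintro ⟨t, rfl⟩
      exact (map_mem_Dl_iff (h.T_le t.2) (h.T_e t t.2)).2 ⟨hle, l, hl, rfl⟩
    · rintro ⟨hve, m, hm, rfl⟩
      obtain ⟨t, ht, h2⟩ := h.trans l hl m hm hle hve
      exact ⟨⟨t, ht⟩, h2⟩
  obtain ⟨m, hm⟩ := h.two.card_orbit (l e)
  rw [h1] at hm
  refine ⟨m, ?_, hm⟩
  rcases Nat.eq_zero_or_pos m with rfl | hpos
  swap
  · exact hpos
  exfalso
  rw [pow_zero, Nat.card_eq_one_iff_unique] at hm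
  obtain ⟨hs, -⟩ := hm
  rcases h.T_fix (l e) (fun t ht => by
    have h2 : t (l e) ∈ Dl L e := (map_mem_Dl_iff (h.T_le ht) (h.T_e t ht)).2 ⟨hle, l, hl, rfl⟩
    exact congrArg Subtype.val (hs.elim (⟨t (l e), h2⟩ : ↥(Dl L e)) ⟨l e, hle, l, hl, rfl⟩)) with h2 | h2
  · exact h.ne (l.injective (h2.trans (map_zero l).symm))
  · exact hle h2

/-- the index of the stabiliser -/
theorem Pt.index_stabilizer [Finite V] (h : Pt L T A e) :
    (MulAction.stabilizer ↥L e).index = Nat.card ↥(Dl L e) + 1 := by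
  rw [MulAction.index_stabilizer]
  have h1 : MulAction.orbit ↥L e = insert e (Dl L e) := by
    ext v
    constructor
    · rintro ⟨l, rfl⟩
      by_cases hle : (l : V ≃ₗ[ZMod 2] V) e = e
      · exact Or.inl hle
      · exact Or.inr ⟨hle, l, l.2, rfl⟩
    · rintro (rfl | ⟨-, l, hl, rfl⟩)
      · exact MulAction.mem_orbit_self _
      · exact ⟨⟨l, hl⟩, rfl⟩
  rw [h1, Set.ncard_insert_of_notMem (fun h2 => h2.1 rfl), Nat.card_coe_set_eq]

/-- THE POINT LEMMA: `[⟨e^L⟩, A, A, A] = 0` implies `|L : L_e| = 3` or `5` -/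
theorem Pt.index_eq [Finite V] (h : Pt L T A e) (hk : ∃ v ∈ Dl L e, Kill A 3 v) :
    (MulAction.stabilizer ↥L e).index = 3 ∨ (MulAction.stabilizer ↥L e).index = 5 := by
  obtain ⟨v, hv, hk⟩ := hk
  have h1 := h.card_le hv hk
  obtain ⟨m, hm, hm2⟩ := h.card_pow
  rw [h.index_stabilizer, hm2]
  rw [hm2] at h1
  have h2 : m ≤ 2 := (Nat.pow_le_pow_iff_right (by norm_num)).1 h1
  interval_cases m
  · left; norm_num
  · right; norm_num

/-- a `2`-group acting on a nonzero space over `F₂` has a nonzero fixed vector -/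
theorem exists_fixed [Finite V] (hA : IsPGroup 2 A) (U : Submodule (ZMod 2) V)
    (hU : ∀ a ∈ A, ∀ u ∈ U, a u ∈ U) (hne : U ≠ ⊥) : ∃ u ∈ U, u ≠ 0 ∧ ∀ a ∈ A, a u = u := by
  let act : MulAction ↥A ↥U :=
    { smul := fun a u => ⟨a.1 u.1, hU a.1 a.2 u.1 u.2⟩
      one_smul := fun u => rfl
      mul_smul := fun a c u => rfl }
  have hdvd : 2 ∣ Nat.card ↥U := by
    obtain ⟨c, hc, hc0⟩ := U.exists_mem_ne_zero_of_ne_bot hne
    have h1 : addOrderOf (⟨c, hc⟩ : ↥U) = 2 := by
      apply addOrderOf_eq_prime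
      · apply Subtype.ext
        show (2 • c : V) = 0
        rw [two_smul, self]
      · intro h2
        exact hc0 (congrArg Subtype.val h2)
    have h2 := addOrderOf_dvd_natCard (⟨c, hc⟩ : ↥U)
    rwa [h1] at h2
  obtain ⟨c, hc, hc0⟩ := hA.exists_fixed_point_of_prime_dvd_card_of_fixed_point
    ↥U hdvd (a := (0 : ↥U)) (by
      intro t
      apply Subtype.ext
      exact map_zero t.1)
  exact ⟨c.1, c.2, fun h => hc0 (Subtype.ext h.symm), fun a ha =>
    congrArg Subtype.val (hc ⟨a, ha⟩)⟩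

theorem Pt.A_two (h : Pt L T A e) : IsPGroup 2 ↥A := by
  intro a
  refine ⟨1, ?_⟩
  apply Subtype.ext
  show (a.1 : V ≃ₗ[ZMod 2] V) ^ (2 ^ 1) = 1
  rw [pow_one, pow_two]
  exact h.A_sq a.1 a.2

/-- THE POINT LEMMA with an invariant form -/
theorem Pt.index_eq_of_form [Finite V] (h : Pt L T A e) (b : LinearMap.BilinForm (ZMod 2) V)
    (nondeg : ∀ v, (∀ w, b v w = 0) → v = 0) (inv : ∀ a ∈ A, ∀ v w, b (a v) (a w) = b v w)
    (h3 : ∀ v, b e v = 0 → Kill A 3 v) (h4 : ∀ v, Kill A 4 v) (hV : 2 ^ 8 < Nat.card V) :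
    (MulAction.stabilizer ↥L e).index = 3 ∨ (MulAction.stabilizer ↥L e).index = 5 := by
  classical
  by_cases hex : ∃ v ∈ Dl L e, b e v = 0
  · obtain ⟨v, hv, hv0⟩ := hex
    exact h.index_eq ⟨v, hv, h3 v hv0⟩
  exfalso
  push Not at hex
  have := Fintype.ofFinite V
  have : Module.Finite (ZMod 2) V := Module.Finite.of_finite
  obtain ⟨l, hl, hle⟩ := h.move
  have hv : l e ∈ Dl L e := ⟨hle, l, hl, rfl⟩
  have hcard : Nat.card ↥(Dl L e) ≤ 8 := h.card_le hv (h4 _)
  let W : Submodule (ZMod 2) V := Submodule.span (ZMod 2) (Dl L e)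
  have hWtop : W ≠ ⊤ := by
    intro htop
    have h1 : Module.finrank (ZMod 2) ↥W ≤ 8 := by
      have h2 := finrank_span_finset_le_card (R := ZMod 2) (Df L e)
      have h3 : ((Df L e : Finset V) : Set V) = Dl L e := by
        ext v; exact mem_Df
      rw [h3] at h2
      have h4 : (Df L e).card = Nat.card ↥(Dl L e) := by
        rw [Nat.card_coe_set_eq, ← Set.ncard_coe_finset, h3]
      rw [h4] at h2
      exact h2.trans hcard
    rw [htop, finrank_top] at h1
    have h2 : Nat.card V = 2 ^ Module.finrank (ZMod 2) V := by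
      rw [Module.natCard_eq_pow_finrank (K := ZMod 2) (V := V), Nat.card_zmod]
    rw [h2] at hV
    have := (Nat.pow_lt_pow_iff_right (by norm_num : 1 < 2)).1 hV
    omega
  -- a vector orthogonal to `W`
  let U : Submodule (ZMod 2) V :=
    { carrier := {u | ∀ w ∈ W, b u w = 0}
      add_mem' := fun {x y} hx hy w hw => by
        rw [map_add, LinearMap.add_apply, hx w hw, hy w hw, add_zero]
      zero_mem' := fun w _ => by rw [map_zero, LinearMap.zero_apply]
      smul_mem' := fun c x hx w hw => by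
        rw [map_smul, LinearMap.smul_apply, hx w hw, smul_zero] }
  have hUne : U ≠ ⊥ := by
    obtain ⟨x, -, hx⟩ := SetLike.exists_of_lt (lt_top_iff_ne_top.2 hWtop)
    obtain ⟨f, hf, hf'⟩ := Submodule.exists_le_ker_of_notMem hx
    have hinj : Function.Injective (b : V →ₗ[ZMod 2] (V →ₗ[ZMod 2] ZMod 2)) := by
      rw [injective_iff_map_eq_zero]
      intro v hv
      exact nondeg v fun w => by rw [hv]; rfl
    have hsurj : Function.Surjective (b : V →ₗ[ZMod 2] (V →ₗ[ZMod 2] ZMod 2)) :=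
      (LinearMap.injective_iff_surjective_of_finrank_eq_finrank
        (Subspace.dual_finrank_eq (K := ZMod 2) (V := V)).symm).1 hinj
    obtain ⟨u, hu⟩ := hsurj f
    intro hU
    have h1 : u ∈ U := fun w hw => by rw [hu]; exact hf' hw
    rw [hU, Submodule.mem_bot] at h1
    rw [h1, map_zero] at hu
    apply hf
    rw [← hu]; rfl
  obtain ⟨u, huU, hu0, huA⟩ := exists_fixed h.A_two U (by
    intro a ha u hu w hw
    have haW : a⁻¹ w ∈ W := by
      have h1 : W ≤ W.comap ((a⁻¹ : V ≃ₗ[ZMod 2] V) : V →ₗ[ZMod 2] V) :=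
        Submodule.span_le.2 fun x hx => Submodule.subset_span (h.A_mem (A.inv_mem ha) hx)
      exact h1 hw
    have h2 : a (a⁻¹ w) = w := a.apply_symm_apply w
    rw [← h2, inv a ha]
    exact hu _ haW) hUne
  have hue : u = e := (h.A_fix u huA).resolve_left hu0
  have h5 : b u (l e) = 0 := huU _ (Submodule.subset_span hv)
  rw [hue] at h5
  exact hex _ hv h5

end Cfsg.Agent.Omega.W5.Point
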